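import Mathlib

/-!
# A four-group cycled by an element `b` with `rank (b - 1) ≤ 2` on a space over `ZMod 3`

`Setting`: a group `G = R⟨b⟩` acting faithfully, `R = [R, b]` of order prime to `3` without fixed
vectors, containing the four-group `⟨q, b q b⁻¹⟩` on which `b` acts regularly.

* `decomp`, `finrank_line`, `apply_b_of_mem_C`, `range_eq`: the eigenspace decomposition of the
  four-group, three lines cycled by `b` and a complement fixed by `b`;
* `invariant_eq_top`: irreducibility;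
* `eq_one_of_common_fixed`, `eq_one_of_small`, `fixed_of_invariant`.
-/

set_option autoImplicit false
set_option linter.style.haveILetI false

set_option linter.unusedSectionVars false

namespace Cfsg.Agent.CubicBlock

open Subgroup Module

variable (G W : Type*) [Group G] [Finite G] [AddCommGroup W] [Module (ZMod 3) W] [Finite W]

/-- The hypotheses. -/
structure Setting where
  ρ : Representation (ZMod 3) G W
  inj : Function.Injective ρ
  R : Subgroup G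
  Rn : R.Normal
  cop : (Nat.card R).Coprime 3
  sol : Group.IsSolvable R
  b : G
  b3 : b ^ 3 = 1
  gen : R ⊔ zpowers b = ⊤
  comm : ⁅R, zpowers b⁆ = R
  fpf : ∀ v, (∀ r ∈ R, ρ r v = v) → v = 0
  rank : finrank (ZMod 3) (LinearMap.range (ρ b - 1)) ≤ 2
  q : G
  q_mem : q ∈ R
  q_ne : q ≠ 1
  q_sq : q * q = 1
  q_comm : Commute q (b * q * b⁻¹)
  q_prod : b * (b * q * b⁻¹) * b⁻¹ = q * (b * q * b⁻¹)

variable {G W}

namespace Setting

variable (S : Setting G W)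

theorem map_mul' (g h : G) (v : W) : S.ρ (g * h) v = S.ρ g (S.ρ h v) := by
  rw [map_mul]; rfl

theorem map_one' (v : W) : S.ρ 1 v = v := by rw [map_one]; rfl

theorem inv_apply (g : G) (v : W) : S.ρ g⁻¹ (S.ρ g v) = v := by
  rw [← S.map_mul', inv_mul_cancel, S.map_one']

theorem apply_inj (g : G) : Function.Injective (S.ρ g) := fun v w h => by
  simpa [S.inv_apply] using congrArg (S.ρ g⁻¹) h

theorem ext_of_apply {g h : G} (e : ∀ v, S.ρ g v = S.ρ h v) : g = h :=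
  S.inj (LinearMap.ext e)

theorem three_eq (v : W) : v + v + v = 0 := by
  have h : (3 : ZMod 3) • v = 0 := by rw [show (3 : ZMod 3) = 0 from by decide, zero_smul]
  rw [← h, show (3 : ZMod 3) = 1 + 1 + 1 from by decide, add_smul, add_smul, one_smul]

theorem neg_add_self_eq {v : W} : -v = v + v := by
  rw [neg_eq_iff_add_eq_zero, ← add_assoc]; exact three_eq v

theorem eq_zero_of_eq_neg {v : W} (h : v = -v) : v = 0 := by
  have h3 := three_eq v
  have h2 : v + v = 0 := by nth_rewrite 2 [h]; exact add_neg_cancel v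
  rwa [h2, zero_add] at h3

/-- The second involution. -/
def q2 : G := S.b * S.q * S.b⁻¹

theorem q2_mem : S.q2 ∈ S.R := S.Rn.conj_mem _ S.q_mem _

theorem q2_sq : S.q2 * S.q2 = 1 := by
  rw [q2, show S.b * S.q * S.b⁻¹ * (S.b * S.q * S.b⁻¹) = S.b * (S.q * S.q) * S.b⁻¹ by group, S.q_sq]
  group

theorem qq (v : W) : S.ρ S.q (S.ρ S.q v) = v := by rw [← S.map_mul', S.q_sq, S.map_one']

theorem q2q2 (v : W) : S.ρ S.q2 (S.ρ S.q2 v) = v := by rw [← S.map_mul', S.q2_sq, S.map_one']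

theorem qq2 (v : W) : S.ρ S.q2 (S.ρ S.q v) = S.ρ S.q (S.ρ S.q2 v) := by
  rw [← S.map_mul', ← S.map_mul', show S.q2 * S.q = S.q * S.q2 from S.q_comm.symm.eq]

theorem b_q (v : W) : S.ρ S.b (S.ρ S.q v) = S.ρ S.q2 (S.ρ S.b v) := by
  rw [← S.map_mul', ← S.map_mul']; congr 2; rw [q2]; group

theorem b_q2 (v : W) : S.ρ S.b (S.ρ S.q2 v) = S.ρ S.q (S.ρ S.q2 (S.ρ S.b v)) := by
  have h : S.b * S.q2 * S.b⁻¹ = S.q * S.q2 := S.q_prod
  rw [← S.map_mul', ← S.map_mul', ← S.map_mul', ← h]; congr 2; group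

theorem bbb (v : W) : S.ρ S.b (S.ρ S.b (S.ρ S.b v)) = v := by
  rw [← S.map_mul', ← S.map_mul', show S.b * S.b * S.b = S.b ^ 3 by rw [pow_succ, pow_two], S.b3, S.map_one']

/-- The eigenspace of the four-group for the signs `s` on `q` and `t` on `q2`. -/
def eig (s t : ZMod 3) : Submodule (ZMod 3) W :=
  LinearMap.ker (S.ρ S.q - s • 1) ⊓ LinearMap.ker (S.ρ S.q2 - t • 1)

theorem mem_eig {s t : ZMod 3} {v : W} :
    v ∈ S.eig s t ↔ S.ρ S.q v = s • v ∧ S.ρ S.q2 v = t • v := by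
  simp [eig, sub_eq_zero]

/-- The fixed space of the four-group. -/
abbrev C : Submodule (ZMod 3) W := S.eig 1 1

/-- The three lines. -/
abbrev L1 : Submodule (ZMod 3) W := S.eig 1 (-1)

abbrev L2 : Submodule (ZMod 3) W := S.eig (-1) 1

abbrev L3 : Submodule (ZMod 3) W := S.eig (-1) (-1)

theorem mem_C {v : W} : v ∈ S.C ↔ S.ρ S.q v = v ∧ S.ρ S.q2 v = v := by simp [mem_eig]

theorem mem_L1 {v : W} : v ∈ S.L1 ↔ S.ρ S.q v = v ∧ S.ρ S.q2 v = -v := by simp [mem_eig]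

theorem mem_L2 {v : W} : v ∈ S.L2 ↔ S.ρ S.q v = -v ∧ S.ρ S.q2 v = v := by simp [mem_eig]

theorem mem_L3 {v : W} : v ∈ S.L3 ↔ S.ρ S.q v = -v ∧ S.ρ S.q2 v = -v := by simp [mem_eig]

theorem decomp (v : W) :
    ∃ c ∈ S.C, ∃ l1 ∈ S.L1, ∃ l2 ∈ S.L2, ∃ l3 ∈ S.L3, v = c + l1 + l2 + l3 := by
  set a := S.ρ S.q v with ha
  set d := S.ρ S.q2 v with hd
  set e := S.ρ S.q (S.ρ S.q2 v) with he
  have h1 : S.ρ S.q a = v := S.qq v
  have h2 : S.ρ S.q d = e := rfl
  have h3 : S.ρ S.q e = d := S.qq _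
  have k1 : S.ρ S.q2 a = e := S.qq2 v
  have k2 : S.ρ S.q2 d = v := S.q2q2 v
  have k3 : S.ρ S.q2 e = a := by rw [he, S.qq2, S.q2q2]
  have hq : S.ρ S.q v = a := rfl
  have hq2 : S.ρ S.q2 v = d := rfl
  refine ⟨v + a + d + e, S.mem_C.2 ⟨?_, ?_⟩, v + a - d - e, S.mem_L1.2 ⟨?_, ?_⟩,
    v - a + d - e, S.mem_L2.2 ⟨?_, ?_⟩, v - a - d + e, S.mem_L3.2 ⟨?_, ?_⟩, ?_⟩
  iterate 8 (simp only [map_add, map_sub, h1, h2, h3, k1, k2, k3, hq, hq2]; abel)
  have : v + a + d + e + (v + a - d - e) + (v - a + d - e) + (v - a - d + e) = v + v + v + v := by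
    abel
  rw [this, three_eq, zero_add]

theorem indep {c l1 l2 l3 : W} (hc : c ∈ S.C) (h1 : l1 ∈ S.L1) (h2 : l2 ∈ S.L2) (h3 : l3 ∈ S.L3)
    (h : c + l1 + l2 + l3 = 0) : c = 0 ∧ l1 = 0 ∧ l2 = 0 ∧ l3 = 0 := by
  obtain ⟨c1, c2⟩ := S.mem_C.1 hc
  obtain ⟨a1, a2⟩ := S.mem_L1.1 h1
  obtain ⟨b1, b2⟩ := S.mem_L2.1 h2
  obtain ⟨d1, d2⟩ := S.mem_L3.1 h3
  have e1 : c + l1 - l2 - l3 = 0 := by
    have := congrArg (S.ρ S.q) h
    simp only [map_add, c1, a1, b1, d1, map_zero] at this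
    rw [← this]; abel
  have e2 : c - l1 + l2 - l3 = 0 := by
    have := congrArg (S.ρ S.q2) h
    simp only [map_add, c2, a2, b2, d2, map_zero] at this
    rw [← this]; abel
  have e3 : c - l1 - l2 + l3 = 0 := by
    have := congrArg (S.ρ S.q ∘ S.ρ S.q2) h
    simp only [Function.comp_apply, map_add, map_neg, c1, c2, a1, a2, b1, b2, d1, d2, map_zero]
      at this
    rw [← this]; abel
  have four : ∀ x : W, x + x + x + x = x := fun x => by rw [three_eq, zero_add]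
  refine ⟨?_, ?_, ?_, ?_⟩
  · calc c = c + c + c + c := (four c).symm
      _ = (c + l1 + l2 + l3) + (c + l1 - l2 - l3) + (c - l1 + l2 - l3) + (c - l1 - l2 + l3) := by
        abel
      _ = 0 := by rw [h, e1, e2, e3]; simp
  · calc l1 = l1 + l1 + l1 + l1 := (four l1).symm
      _ = (c + l1 + l2 + l3) + (c + l1 - l2 - l3) - (c - l1 + l2 - l3) - (c - l1 - l2 + l3) := by
        abel
      _ = 0 := by rw [h, e1, e2, e3]; simp
  · calc l2 = l2 + l2 + l2 + l2 := (four l2).symm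
      _ = (c + l1 + l2 + l3) - (c + l1 - l2 - l3) + (c - l1 + l2 - l3) - (c - l1 - l2 + l3) := by
        abel
      _ = 0 := by rw [h, e1, e2, e3]; simp
  · calc l3 = l3 + l3 + l3 + l3 := (four l3).symm
      _ = (c + l1 + l2 + l3) - (c + l1 - l2 - l3) - (c - l1 + l2 - l3) + (c - l1 - l2 + l3) := by
        abel
      _ = 0 := by rw [h, e1, e2, e3]; simp

theorem b_mem_L2 {v : W} (hv : v ∈ S.L1) : S.ρ S.b v ∈ S.L2 := by
  obtain ⟨h1, h2⟩ := S.mem_L1.1 hv
  have e1 : S.ρ S.q2 (S.ρ S.b v) = S.ρ S.b v := by rw [← S.b_q, h1]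
  refine S.mem_L2.2 ⟨?_, e1⟩
  have := S.b_q2 v
  rw [h2, map_neg, e1] at this
  exact this.symm

theorem b_mem_L3 {v : W} (hv : v ∈ S.L2) : S.ρ S.b v ∈ S.L3 := by
  obtain ⟨h1, h2⟩ := S.mem_L2.1 hv
  have e1 : S.ρ S.q2 (S.ρ S.b v) = -S.ρ S.b v := by rw [← S.b_q, h1, map_neg]
  refine S.mem_L3.2 ⟨?_, e1⟩
  have := S.b_q2 v
  rw [h2, e1, map_neg] at this
  rw [← neg_inj, neg_neg]; exact this.symm

theorem b_mem_L1 {v : W} (hv : v ∈ S.L3) : S.ρ S.b v ∈ S.L1 := by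
  obtain ⟨h1, h2⟩ := S.mem_L3.1 hv
  have e1 : S.ρ S.q2 (S.ρ S.b v) = -S.ρ S.b v := by rw [← S.b_q, h1, map_neg]
  refine S.mem_L1.2 ⟨?_, e1⟩
  have := S.b_q2 v
  rw [h2, e1, map_neg, map_neg] at this
  exact neg_injective this.symm

theorem b_mem_C {v : W} (hv : v ∈ S.C) : S.ρ S.b v ∈ S.C := by
  obtain ⟨h1, h2⟩ := S.mem_C.1 hv
  have e1 : S.ρ S.q2 (S.ρ S.b v) = S.ρ S.b v := by rw [← S.b_q, h1]
  refine S.mem_C.2 ⟨?_, e1⟩
  have := S.b_q2 v
  rw [h2, e1] at this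
  exact this.symm

theorem L1_ne_bot : S.L1 ≠ ⊥ := by
  intro h
  have h2 : ∀ v ∈ S.L2, v = 0 := fun v hv => by
    have := S.b_mem_L1 (S.b_mem_L3 hv)
    rw [h, Submodule.mem_bot] at this
    exact S.apply_inj S.b (S.apply_inj S.b (by rw [this]; simp))
  have h3 : ∀ v ∈ S.L3, v = 0 := fun v hv => by
    have := S.b_mem_L1 hv
    rw [h, Submodule.mem_bot] at this
    exact S.apply_inj S.b (by rw [this]; simp)
  refine S.q_ne (S.ext_of_apply fun v => ?_)
  obtain ⟨c, hc, l1, hl1, l2, hl2, l3, hl3, rfl⟩ := S.decomp v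
  rw [h, Submodule.mem_bot] at hl1
  rw [hl1, h2 l2 hl2, h3 l3 hl3]
  simp [(S.mem_C.1 hc).1]

/-- `b - 1`. -/
abbrev D : W →ₗ[ZMod 3] W := S.ρ S.b - 1

theorem D_apply (v : W) : S.D v = S.ρ S.b v - v := rfl

theorem D_injective : Function.Injective
    ((S.D.domRestrict S.L1).coprod (S.D.domRestrict S.L2)) := by
  rw [← LinearMap.ker_eq_bot, Submodule.eq_bot_iff]
  rintro ⟨⟨x, hx⟩, ⟨y, hy⟩⟩ h
  rw [LinearMap.mem_ker, LinearMap.coprod_apply, LinearMap.domRestrict_apply,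
    LinearMap.domRestrict_apply, D_apply, D_apply] at h
  obtain ⟨-, e1, -, -⟩ := S.indep (S.C.zero_mem) (S.L1.neg_mem hx)
    (S.L2.sub_mem (S.b_mem_L2 hx) hy) (S.b_mem_L3 hy) (Eq.trans (by simp only; abel) h)
  have hx0 : x = 0 := by simpa using e1
  subst hx0
  obtain ⟨-, -, e2, -⟩ := S.indep (S.C.zero_mem) (S.L1.zero_mem) (S.L2.neg_mem hy)
    (S.b_mem_L3 hy) (Eq.trans (by simp only [map_zero]; abel) h)
  simp at e2
  simp [e2]

theorem finrank_L1_add_L2 : finrank (ZMod 3) S.L1 + finrank (ZMod 3) S.L2 ≤ 2 := by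
  have h := LinearMap.finrank_range_of_inj S.D_injective
  rw [Module.finrank_prod] at h
  rw [← h]
  refine le_trans (Submodule.finrank_mono ?_) S.rank
  rintro _ ⟨⟨x, y⟩, rfl⟩
  simp only [LinearMap.coprod_apply, LinearMap.domRestrict_apply]
  exact Submodule.add_mem _ ⟨_, rfl⟩ ⟨_, rfl⟩

theorem finrank_L1 : finrank (ZMod 3) S.L1 = 1 ∧ finrank (ZMod 3) S.L2 = 1 ∧
    finrank (ZMod 3) S.L3 = 1 := by
  have h1 : 1 ≤ finrank (ZMod 3) S.L1 := Submodule.one_le_finrank_iff.2 S.L1_ne_bot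
  have inj : ∀ (A B : Submodule (ZMod 3) W), (∀ v ∈ A, S.ρ S.b v ∈ B) →
      finrank (ZMod 3) A ≤ finrank (ZMod 3) B := fun A B h =>
    LinearMap.finrank_le_finrank_of_injective (f := (S.ρ S.b).restrict h) fun x y e =>
      Subtype.ext (S.apply_inj S.b (congrArg Subtype.val e))
  have a := inj _ _ fun v hv => S.b_mem_L2 hv
  have b := inj _ _ fun v hv => S.b_mem_L3 hv
  have c := inj _ _ fun v hv => S.b_mem_L1 hv
  have := S.finrank_L1_add_L2
  omega

theorem range_eq : LinearMap.range S.D =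
    LinearMap.range ((S.D.domRestrict S.L1).coprod (S.D.domRestrict S.L2)) := by
  symm
  refine Submodule.eq_of_le_of_finrank_le ?_ ?_
  · rintro _ ⟨⟨x, y⟩, rfl⟩
    simp only [LinearMap.coprod_apply, LinearMap.domRestrict_apply]
    exact Submodule.add_mem _ ⟨_, rfl⟩ ⟨_, rfl⟩
  · rw [LinearMap.finrank_range_of_inj S.D_injective, Module.finrank_prod]
    have := S.finrank_L1
    have : finrank (ZMod 3) (LinearMap.range S.D) ≤ 2 := S.rank
    omega

theorem range_le {U : Submodule (ZMod 3) W} (h1 : S.L1 ≤ U) (h2 : S.L2 ≤ U) (h3 : S.L3 ≤ U) :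
    LinearMap.range S.D ≤ U := by
  rw [range_eq]
  rintro _ ⟨⟨x, y⟩, rfl⟩
  simp only [LinearMap.coprod_apply, LinearMap.domRestrict_apply, D_apply]
  exact U.add_mem (U.sub_mem (h2 (S.b_mem_L2 x.2)) (h1 x.2))
    (U.sub_mem (h3 (S.b_mem_L3 y.2)) (h2 y.2))

theorem apply_b_of_mem_C {v : W} (hv : v ∈ S.C) : S.ρ S.b v = v := by
  have h : S.D v ∈ LinearMap.range S.D := ⟨v, rfl⟩
  rw [range_eq] at h
  obtain ⟨⟨x, y⟩, e⟩ := h
  simp only [LinearMap.coprod_apply, LinearMap.domRestrict_apply, D_apply] at e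
  obtain ⟨e0, -, -, -⟩ := S.indep (S.C.sub_mem (S.b_mem_C hv) hv) (l1 := (x : W))
    (l2 := (y : W) - S.ρ S.b x) (l3 := -S.ρ S.b y) x.2 (S.L2.sub_mem y.2 (S.b_mem_L2 x.2))
    (S.L3.neg_mem (S.b_mem_L3 y.2)) (by rw [← e]; abel)
  exact sub_eq_zero.1 e0

include S in
theorem three_le_finrank : 3 ≤ finrank (ZMod 3) W := by
  obtain ⟨a, b, c⟩ := S.finrank_L1
  let f : (S.L1 × S.L2) × S.L3 →ₗ[ZMod 3] W := (S.L1.subtype.coprod S.L2.subtype).coprod S.L3.subtype
  have hf : Function.Injective f := by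
    rw [← LinearMap.ker_eq_bot, Submodule.eq_bot_iff]
    rintro ⟨⟨x, y⟩, z⟩ h
    simp only [LinearMap.mem_ker, f, LinearMap.coprod_apply, Submodule.coe_subtype] at h
    obtain ⟨-, e1, e2, e3⟩ := S.indep S.C.zero_mem x.2 y.2 z.2 (by rw [zero_add]; exact h)
    simp only [Prod.mk_eq_zero]
    exact ⟨⟨Subtype.ext e1, Subtype.ext e2⟩, Subtype.ext e3⟩
  have := LinearMap.finrank_le_finrank_of_injective hf
  simp only [Module.finrank_prod] at this
  omega

/-- The subgroup of elements acting trivially modulo `U`. -/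
theorem moves_into (U : Submodule (ZMod 3) W) (hU : ∀ g, ∀ v ∈ U, S.ρ g v ∈ U)
    (hb : ∀ v, S.ρ S.b v - v ∈ U) : ∀ r ∈ S.R, ∀ v, S.ρ r v - v ∈ U := by
  let N : Subgroup G :=
    { carrier := {g | ∀ v, S.ρ g v - v ∈ U}
      one_mem' := fun v => by simp [S.map_one']
      mul_mem' := fun {x y} hx hy v => by
        rw [S.map_mul', ← sub_add_sub_cancel _ (S.ρ y v)]
        exact U.add_mem (hx _) (hy _)
      inv_mem' := fun {x} hx v => by
        have := hx (S.ρ x⁻¹ v)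
        rw [← S.map_mul', mul_inv_cancel, S.map_one'] at this
        rw [← neg_sub]; exact U.neg_mem this }
  have hbN : S.b ∈ N := hb
  have hNn : N.Normal := ⟨fun x hx g v => by
    have h := hU g _ (hx (S.ρ g⁻¹ v))
    rw [map_sub, ← S.map_mul', ← S.map_mul', ← S.map_mul', mul_inv_cancel, S.map_one'] at h
    exact h⟩
  intro r hr
  rw [← S.comm] at hr
  exact (commutator_le_right S.R N) (commutator_mono le_rfl (zpowers_le.2 hbN) hr)

theorem eq_one_of_common_fixed {A : Subgroup G} (hA : A.Normal)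
    (h : ∃ v : W, v ≠ 0 ∧ ∀ a ∈ A, S.ρ a v = v)
    (irr : ∀ U : Submodule (ZMod 3) W, (∀ g, ∀ v ∈ U, S.ρ g v ∈ U) → U ≠ ⊥ → U = ⊤) : A = ⊥ := by
  obtain ⟨v0, hv0, hfix⟩ := h
  let U : Submodule (ZMod 3) W :=
    { carrier := {v | ∀ a ∈ A, S.ρ a v = v}
      add_mem' := fun hx hy a ha => by rw [map_add, hx a ha, hy a ha]
      zero_mem' := fun a _ => map_zero _
      smul_mem' := fun c x hx a ha => by rw [map_smul, hx a ha] }
  have hU := irr U (fun g v hv a ha => by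
      have := hv _ (hA.conj_mem a ha g⁻¹)
      rw [inv_inv, S.map_mul', S.map_mul'] at this
      conv_rhs => rw [← this]
      rw [← S.map_mul' g g⁻¹, mul_inv_cancel, S.map_one'])
    (fun e => hv0 (by simpa [e] using (show v0 ∈ U from hfix)))
  rw [Subgroup.eq_bot_iff_forall]
  intro a ha
  refine S.ext_of_apply fun v => ?_
  have : v ∈ U := by rw [hU]; exact Submodule.mem_top
  rw [this a ha, S.map_one']

end Setting

end Cfsg.Agent.CubicBlock
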