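import Cfsg.Agent.Lib.CubicBlock.Monomial
import Cfsg.Agent.Lib.PGroup.SymplecticType
import Cfsg.Agent.Lib.PCore.Basic
import Cfsg.Agent.Lib.SolvableTwo.Basic
import Cfsg.Agent.Lib.Solvable.Basic

/-!
# The structure of `R`

* `conclusion`: `R` is a four-group, or extraspecial of order `32` with an elementary abelian
  subgroup of order `8`.
-/

set_option autoImplicit false
set_option linter.style.haveILetI false
set_option linter.unusedSectionVars false
set_option linter.unusedSimpArgs false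
set_option linter.unnecessarySeqFocus false

namespace Cfsg.Agent.CubicBlock

open Subgroup Module Cfsg
open scoped commutatorElement

namespace Setting

variable {G W : Type*} [Group G] [Finite G] [AddCommGroup W] [Module (ZMod 3) W] [Finite W]
  (S : Setting G W)

theorem zmod5_cube : ∀ c : ZMod 5, c * (c * c) = 1 → c = 1 := by decide

theorem isScalar_one : S.IsScalar 1 := Or.inl S.map_one'

include S in
theorem finrank_even_of_neg {z : G} (hz : z ∈ S.R) (h : ∀ v, S.ρ z v = -v) :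
    Even (finrank (ZMod 3) W) := by
  have e : S.ρ z = (-1 : ZMod 3) • 1 := LinearMap.ext fun v => by simp [h v]
  have hd := S.det_eq_one hz
  rw [e, LinearMap.det_smul, map_one, mul_one] at hd
  by_contra hodd
  rw [Nat.not_even_iff_odd] at hodd
  rw [hodd.neg_one_pow] at hd
  exact absurd hd (by decide)

include S in
theorem odd_eq_bot {A : Subgroup G} (hA : A.Normal) [IsMulCommutative A] (hAR : A ≤ S.R)
    (hodd : Odd (Nat.card A)) : A = ⊥ := by
  by_contra hne
  obtain ⟨r, hr, hrd⟩ := Nat.exists_prime_and_dvd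
    (fun h => hne (Subgroup.card_eq_one.1 h) : Nat.card A ≠ 1)
  haveI := Fact.mk hr
  have h5 : 5 ≤ r := by
    have h2 : r ≠ 2 := fun e => by
      subst e; exact absurd hodd (Nat.not_odd_iff_even.2 (even_iff_two_dvd.2 hrd))
    have h3 : r ≠ 3 := fun e => by
      subst e
      have := S.cop.coprime_dvd_left (hrd.trans (Subgroup.card_dvd_of_le hAR))
      norm_num at this
    by_contra hlt
    interval_cases r <;> first | omega | (norm_num at hr)
  have comA : ∀ u ∈ A, ∀ v ∈ A, Commute u v := fun u hu v hv =>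
    congrArg Subtype.val (mul_comm' (⟨u, hu⟩ : A) ⟨v, hv⟩)
  let Ar : Subgroup G :=
    { carrier := {x | x ∈ A ∧ x ^ r = 1}
      one_mem' := ⟨one_mem _, one_pow _⟩
      mul_mem' := fun {x y} hx hy =>
        ⟨mul_mem hx.1 hy.1, by rw [(comA x hx.1 y hy.1).mul_pow, hx.2, hy.2, mul_one]⟩
      inv_mem' := fun {x} hx => ⟨inv_mem hx.1, by rw [inv_pow, hx.2, inv_one]⟩ }
  have hArn : Ar.Normal :=
    ⟨fun x hx g => ⟨hA.conj_mem x hx.1 g, by rw [conj_pow, hx.2, mul_one, mul_inv_cancel]⟩⟩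
  haveI : IsMulCommutative Ar := ⟨⟨fun x y => Subtype.ext (comA x x.2.1 y y.2.1)⟩⟩
  have hbot := S.eq_bot_of_exponent hArn hr h5 (fun a ha => ha.2)
  obtain ⟨x, hx⟩ := exists_prime_orderOf_dvd_card' r hrd
  have hm : (x : G) ∈ Ar := ⟨x.2, by rw [← hx, ← Subgroup.orderOf_coe, pow_orderOf_eq_one]⟩
  rw [hbot, mem_bot, OneMemClass.coe_eq_one] at hm
  rw [hm, orderOf_one] at hx
  exact hr.one_lt.ne hx

theorem exists_elementary (A : Subgroup G) (hA : A.Normal) [IsMulCommutative A] (hAR : A ≤ S.R)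
    (hns : ∃ a ∈ A, ¬ S.IsScalar a) :
    ∃ A2 : Subgroup G, A2.Normal ∧ IsMulCommutative A2 ∧ (∀ a ∈ A2, a * a = 1) ∧ A2 ≤ S.R ∧
      ∃ a ∈ A2, ¬ S.IsScalar a := by
  have comA : ∀ u ∈ A, ∀ v ∈ A, Commute u v := fun u hu v hv =>
    congrArg Subtype.val (mul_comm' (⟨u, hu⟩ : A) ⟨v, hv⟩)
  -- the odd part is trivial
  have hp2 : ∀ a ∈ A, ∃ k, a ^ 2 ^ k = 1 := by
    intro a ha
    let Ao : Subgroup G :=
      { carrier := {x | x ∈ A ∧ Odd (orderOf x)}
        one_mem' := ⟨one_mem _, by simp⟩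
        mul_mem' := fun {x y} hx hy => ⟨mul_mem hx.1 hy.1,
          Odd.of_dvd_nat (hx.2.mul hy.2) (Commute.orderOf_mul_dvd_mul_orderOf (comA x hx.1 y hy.1))⟩
        inv_mem' := fun {x} hx => ⟨inv_mem hx.1, by rw [orderOf_inv]; exact hx.2⟩ }
    have hAo : Ao.Normal := ⟨fun x hx g => ⟨hA.conj_mem x hx.1 g, by
      have h2 := orderOf_injective (MulAut.conj g).toMonoidHom (MulAut.conj g).injective x
      simp only [MulEquiv.coe_toMonoidHom, MulAut.conj_apply] at h2
      rw [h2]; exact hx.2⟩⟩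
    haveI : IsMulCommutative Ao := ⟨⟨fun x y => Subtype.ext (comA x x.2.1 y y.2.1)⟩⟩
    have hbot := S.odd_eq_bot hAo (fun x hx => hAR hx.1) (by
      by_contra hev
      rw [Nat.not_odd_iff_even, even_iff_two_dvd] at hev
      haveI := Fact.mk Nat.prime_two
      obtain ⟨x, hx⟩ := exists_prime_orderOf_dvd_card' 2 hev
      have := x.2.2
      rw [Subgroup.orderOf_coe, hx] at this
      exact absurd this (by decide))
    obtain ⟨k, m, hm, hk⟩ := Nat.exists_eq_two_pow_mul_odd (orderOf_pos a).ne'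
    refine ⟨k, ?_⟩
    have : a ^ 2 ^ k ∈ Ao := ⟨pow_mem ha _, hm.of_dvd_nat
      (orderOf_dvd_of_pow_eq_one (by rw [← pow_mul, ← hk, pow_orderOf_eq_one]))⟩
    rwa [hbot, mem_bot] at this
  let A2 : Subgroup G :=
    { carrier := {x | x ∈ A ∧ x * x = 1}
      one_mem' := ⟨one_mem _, one_mul _⟩
      mul_mem' := fun {x y} hx hy => ⟨mul_mem hx.1 hy.1, by
        rw [mul_assoc, ← mul_assoc y x y, ← (comA x hx.1 y hy.1).eq, mul_assoc x y y, hy.2, mul_one,
          hx.2]⟩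
      inv_mem' := fun {x} hx => ⟨inv_mem hx.1, by rw [← mul_inv_rev, hx.2, inv_one]⟩ }
  refine ⟨A2, ⟨fun x hx g => ⟨hA.conj_mem x hx.1 g, by
    calc g * x * g⁻¹ * (g * x * g⁻¹) = g * (x * x) * g⁻¹ := by group
      _ = 1 := by rw [hx.2]; group⟩⟩,
    ⟨⟨fun x y => Subtype.ext (comA x x.2.1 y y.2.1)⟩⟩, fun a ha => ha.2, fun a ha => hAR ha.1, ?_⟩
  by_contra hcon
  push Not at hcon
  obtain ⟨a, ha, hna, hsq⟩ : ∃ a ∈ A, ¬ S.IsScalar a ∧ S.IsScalar (a * a) := by
    obtain ⟨a0, ha0, hna0⟩ := hns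
    obtain ⟨k, hk⟩ := hp2 a0 ha0
    have hex : ∃ j, S.IsScalar (a0 ^ 2 ^ j) := ⟨k, by rw [hk]; exact S.isScalar_one⟩
    classical
    have hj := Nat.find_spec hex
    obtain ⟨i, hi⟩ : ∃ i, Nat.find hex = i + 1 := by
      refine ⟨Nat.find hex - 1, ?_⟩
      have : Nat.find hex ≠ 0 := fun h0 => hna0 (by simpa [h0] using hj)
      omega
    refine ⟨a0 ^ 2 ^ i, pow_mem ha0 _, Nat.find_min hex (by omega), ?_⟩
    rw [hi, pow_succ, pow_mul, pow_two] at hj
    exact hj
  have hneg : ∀ v, S.ρ (a * a) v = -v := by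
    rcases hsq with h | h
    · exact absurd (hcon a ⟨ha, S.ext_of_apply fun v => by rw [h, S.map_one']⟩) hna
    · exact h
  -- any nonscalar member with scalar square is `a` or `a⁻¹`
  have hcases : ∀ c ∈ A, ¬ S.IsScalar c → c * c = a * a → c = a ∨ c = a⁻¹ := by
    intro c hc hnc hcc
    have hm : c * a⁻¹ ∈ A2 := ⟨mul_mem hc (inv_mem ha), by
      rw [mul_assoc, ← mul_assoc a⁻¹ c, ← (comA c hc _ (inv_mem ha)).eq, mul_assoc c a⁻¹,
        ← mul_assoc c c, hcc]
      group⟩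
    rcases hcon _ hm with h | h
    · left
      exact mul_inv_eq_one.1 (S.ext_of_apply fun v => by rw [h, S.map_one'])
    · right
      refine S.ext_of_apply fun v => ?_
      have hv : S.ρ c v = -S.ρ a v := by
        rw [show S.ρ c v = S.ρ (c * a⁻¹ * a) v by congr 2; group, S.map_mul', h]
      have hw := hneg (S.ρ a⁻¹ v)
      rw [← S.map_mul', show a * a * a⁻¹ = a by group] at hw
      rw [hv, hw, neg_neg]
  have hconj : ∀ g, g * a * g⁻¹ = a ∨ g * a * g⁻¹ = a⁻¹ := fun g => by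
    refine hcases _ (hA.conj_mem a ha g) (fun h => hna ?_) ?_
    · have h2 := IsScalar.comm S h g
      have : a = g * a * g⁻¹ := by
        calc a = g⁻¹ * ((g * a * g⁻¹) * g) := by group
          _ = g⁻¹ * (g * (g * a * g⁻¹)) := by rw [h2]
          _ = g * a * g⁻¹ := by group
      rw [this]; exact h
    · calc g * a * g⁻¹ * (g * a * g⁻¹) = g * (a * a) * g⁻¹ := by group
        _ = a * a := by rw [← IsScalar.comm S hsq g]; group
  have haa : a ≠ a⁻¹ := fun h => hna (hcon a ⟨ha, by nth_rw 2 [h]; exact mul_inv_cancel a⟩)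
  have hb : S.b * a * S.b⁻¹ = a := by
    rcases hconj S.b with h | h
    · exact h
    · exfalso
      apply haa
      have h2 : S.b * a⁻¹ * S.b⁻¹ = a := by
        calc S.b * a⁻¹ * S.b⁻¹ = (S.b * a * S.b⁻¹)⁻¹ := by group
          _ = a := by rw [h, inv_inv]
      calc a = S.b ^ 3 * a * (S.b ^ 3)⁻¹ := by rw [S.b3]; group
        _ = S.b * (S.b * (S.b * a * S.b⁻¹) * S.b⁻¹) * S.b⁻¹ := by
            rw [pow_succ, pow_two]; group
        _ = a⁻¹ := by rw [h, h2, h]
  have hbi : S.b⁻¹ * a * S.b = a := by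
    calc S.b⁻¹ * a * S.b = S.b⁻¹ * (S.b * a * S.b⁻¹) * S.b := by rw [hb]
      _ = a := by group
  have hqq2 : S.q2 * a * S.q2⁻¹ = S.b * (S.q * a * S.q⁻¹) * S.b⁻¹ := by
    rw [show S.q2 = S.b * S.q * S.b⁻¹ from rfl]
    conv_rhs => rw [← hbi]
    group
  have hq : S.q * a * S.q⁻¹ = a := by
    rcases hconj S.q with h | h
    · exact h
    · exfalso
      apply haa
      have hbinv : S.b * a⁻¹ * S.b⁻¹ = a⁻¹ := by
        calc S.b * a⁻¹ * S.b⁻¹ = (S.b * a * S.b⁻¹)⁻¹ := by group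
          _ = a⁻¹ := by rw [hb]
      have h2 : S.q2 * a * S.q2⁻¹ = a⁻¹ := by rw [hqq2, h, hbinv]
      have h3 : (S.q * S.q2) * a * (S.q * S.q2)⁻¹ = a⁻¹ := by
        rw [show S.q * S.q2 = S.b * S.q2 * S.b⁻¹ from S.q_prod.symm]
        calc S.b * S.q2 * S.b⁻¹ * a * (S.b * S.q2 * S.b⁻¹)⁻¹
            = S.b * (S.q2 * (S.b⁻¹ * a * S.b) * S.q2⁻¹) * S.b⁻¹ := by group
          _ = a⁻¹ := by rw [hbi, h2, hbinv]
      rw [mul_inv_rev] at h3
      calc a = (S.q * a * S.q⁻¹)⁻¹ := by rw [h, inv_inv]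
        _ = S.q * a⁻¹ * S.q⁻¹ := by group
        _ = S.q * (S.q2 * a * S.q2⁻¹) * S.q⁻¹ := by rw [h2]
        _ = S.q * S.q2 * a * (S.q2⁻¹ * S.q⁻¹) := by group
        _ = a⁻¹ := h3
  have hq2 : S.q2 * a * S.q2⁻¹ = a := by rw [hqq2, hq, hb]
  obtain ⟨x, hx, hx0⟩ := (Submodule.ne_bot_iff _).1 S.L1_ne_bot
  have hm : S.ρ a x ∈ S.L1 := S.mem_L1.2
    ⟨by rw [← S.map_mul', mul_inv_eq_iff_eq_mul.1 hq, S.map_mul', (S.mem_L1.1 hx).1],
     by rw [← S.map_mul', mul_inv_eq_iff_eq_mul.1 hq2, S.map_mul', (S.mem_L1.1 hx).2, map_neg]⟩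
  obtain ⟨c, hc'⟩ := (finrank_eq_one_iff_of_nonzero' (⟨x, hx⟩ : S.L1) (by simpa using hx0)).1
    S.finrank_L1.1 ⟨_, hm⟩
  have e : S.ρ a x = c • x := (congrArg Subtype.val hc').symm
  have hc0 : c ≠ 0 := fun h => hx0 (S.apply_inj a (by rw [e, h, zero_smul, map_zero]))
  have h := hneg x
  rw [S.map_mul', e, map_smul, e, smul_smul, sq_one hc0, one_smul] at h
  exact hx0 (eq_zero_of_eq_neg h)

/-- A nonabelian subgroup with scalar squares and scalar centre. -/
theorem commutator_isScalar {X : Subgroup G} (hsq : ∀ x ∈ X, S.IsScalar (x * x)) {x y : G}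
    (hx : x ∈ X) (hy : y ∈ X) : S.IsScalar (x * y * x⁻¹ * y⁻¹) := by
  have h1 := hsq _ hx
  have h2 := hsq _ (mul_mem (inv_mem hx) hy)
  have h3 := hsq _ (inv_mem hy)
  have e : x * y * x⁻¹ * y⁻¹ = x * x * ((x⁻¹ * y) * (x⁻¹ * y)) * (y⁻¹ * y⁻¹) := by group
  rw [e]
  exact (h1.mul S h2).mul S h3

theorem card_le_two_of_scalar {H : Subgroup G} (h : ∀ x ∈ H, S.IsScalar x) : Nat.card H ≤ 2 := by
  classical
  let f : H → Bool := fun x => if (x : G) = 1 then true else false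
  have hf : Function.Injective f := by
    intro x y e
    have hneg : ∀ z : H, (z : G) ≠ 1 → ∀ v, S.ρ (z : G) v = -v := fun z hz => by
      rcases h _ z.2 with k | k
      · exact absurd (S.ext_of_apply fun v => by rw [k, S.map_one']) hz
      · exact k
    by_cases hx : (x : G) = 1
    · by_cases hy : (y : G) = 1
      · exact Subtype.ext (hx.trans hy.symm)
      · simp only [f, if_pos hx, if_neg hy] at e
        exact Bool.noConfusion e
    · by_cases hy : (y : G) = 1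
      · simp only [f, if_pos hy, if_neg hx] at e
        exact Bool.noConfusion e
      · refine Subtype.ext (S.ext_of_apply fun v => ?_)
        rw [hneg x hx, hneg y hy]
  have := Nat.card_le_card_of_injective f hf
  simpa using this

theorem exists_neg_commutator {X : Subgroup G} (hsq : ∀ x ∈ X, S.IsScalar (x * x))
    (hcen : ∀ x ∈ X, (∀ y ∈ X, x * y = y * x) → S.IsScalar x) {z : G} (hz : z ∈ X)
    (hnz : ¬ S.IsScalar z) : ∃ y ∈ X, ∀ v, S.ρ (z * y * z⁻¹ * y⁻¹) v = -v := by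
  by_contra hcon
  push Not at hcon
  refine hnz (hcen z hz fun y hy => ?_)
  obtain ⟨v, hv⟩ := hcon y hy
  rcases S.commutator_isScalar hsq hz hy with h | h
  · have : z * y * z⁻¹ * y⁻¹ = 1 := S.ext_of_apply fun v => by rw [h, S.map_one']
    exact commutatorElement_eq_one_iff_mul_comm.1 this
  · exact absurd (h v) hv

theorem isExtraspecial_of_scalar {X : Subgroup G} (hsq : ∀ x ∈ X, S.IsScalar (x * x))
    (hcen : ∀ x ∈ X, (∀ y ∈ X, x * y = y * x) → S.IsScalar x)
    (hna : ∃ x ∈ X, ∃ y ∈ X, x * y ≠ y * x) : IsExtraspecial 2 X := by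
  haveI := Fact.mk Nat.prime_two
  have hp : IsPGroup 2 X := fun x => ⟨2, Subtype.ext (by
    rw [Subgroup.coe_pow, show (2 : ℕ) ^ 2 = 2 * 2 from rfl, pow_mul, pow_two, pow_two]
    exact IsScalar.sq S (hsq x x.2))⟩
  obtain ⟨x, hx, y, hy, hxy⟩ := hna
  have hcm : ∀ c : X, c ∈ Subgroup.center X ↔ S.IsScalar (c : G) := fun c =>
    ⟨fun h => hcen c c.2 fun z hz =>
      (congrArg Subtype.val (Subgroup.mem_center_iff.1 h ⟨z, hz⟩)).symm,
     fun h => Subgroup.mem_center_iff.2 fun z => Subtype.ext (IsScalar.comm S h z).symm⟩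
  refine PGroup.isExtraspecial_of hp ?_ ?_ (fun a c => (hcm _).2 ?_) (fun a => (hcm _).2 ?_)
  · refine le_antisymm ?_ ?_
    · rw [← Subgroup.card_map_of_injective X.subtype_injective]
      exact S.card_le_two_of_scalar (by rintro _ ⟨c, hc, rfl⟩; exact (hcm c).1 hc)
    · by_contra hlt
      haveI : Nontrivial X := ⟨⟨⟨x, hx⟩, ⟨y, hy⟩, fun e => hxy (by rw [show x = y from congrArg Subtype.val e])⟩⟩
      have := Nat.card_pos (α := Subgroup.center X)
      have h1 : Nat.card (Subgroup.center X) = 1 := by omega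
      exact hp.bot_lt_center.ne' (Subgroup.card_eq_one.1 h1)
  · intro h
    have := h ▸ mem_top (⟨x, hx⟩ : X)
    exact hxy (congrArg Subtype.val (Subgroup.mem_center_iff.1 this ⟨y, hy⟩)).symm
  · exact S.commutator_isScalar hsq a.2 c.2
  · rw [Subgroup.coe_pow, pow_two]; exact hsq a a.2

/-- Dimension at least five is impossible. -/
theorem centralizes_of_five_le (h5 : 5 ≤ finrank (ZMod 3) W) {X : Subgroup G} (hX : X.Normal)
    (hsq : ∀ x ∈ X, S.IsScalar (x * x))
    (hcen : ∀ x ∈ X, (∀ y ∈ X, x * y = y * x) → S.IsScalar x) {x : G} (hx : x ∈ X) :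
    S.b * (x * S.b * x⁻¹ * S.b⁻¹) * S.b⁻¹ = x * S.b * x⁻¹ * S.b⁻¹ := by
  set z := x * S.b * x⁻¹ * S.b⁻¹ with hz
  have hzX : z ∈ X := by
    rw [hz, show x * S.b * x⁻¹ * S.b⁻¹ = x * (S.b * x⁻¹ * S.b⁻¹) by group]
    exact mul_mem hx (hX.conj_mem _ (inv_mem hx) _)
  let C0 : Submodule (ZMod 3) W := LinearMap.ker S.D ⊓ (LinearMap.ker S.D).map (S.ρ x)
  have hkb : finrank (ZMod 3) W ≤ finrank (ZMod 3) (LinearMap.ker S.D) + 2 := by
    have := LinearMap.finrank_range_add_finrank_ker S.D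
    have : finrank (ZMod 3) (LinearMap.range S.D) ≤ 2 := S.rank
    omega
  have hC0 : finrank (ZMod 3) W ≤ finrank (ZMod 3) C0 + 4 := by
    have e := Submodule.finrank_sup_add_finrank_inf_eq (LinearMap.ker S.D)
      ((LinearMap.ker S.D).map (S.ρ x))
    have e2 := (Submodule.equivMapOfInjective (S.ρ x) (S.apply_inj x) (LinearMap.ker S.D)).finrank_eq
    have e3 := Submodule.finrank_le (LinearMap.ker S.D ⊔ (LinearMap.ker S.D).map (S.ρ x))
    show _ ≤ finrank (ZMod 3) ↥(LinearMap.ker S.D ⊓ (LinearMap.ker S.D).map (S.ρ x)) + 4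
    omega
  have hker : ∀ v ∈ LinearMap.ker S.D, S.ρ S.b v = v := fun v hv => sub_eq_zero.1 hv
  have hC0b : ∀ v ∈ C0, S.ρ S.b v = v := fun v hv => hker v hv.1
  have hC0bi : ∀ v ∈ C0, S.ρ S.b⁻¹ v = v := fun v hv => by
    conv_lhs => rw [← hC0b v hv]
    exact S.inv_apply _ _
  have hC0z : ∀ v ∈ C0, S.ρ z v = v := by
    intro v hv
    obtain ⟨u, hu, rfl⟩ := hv.2
    rw [hz, S.map_mul', hC0bi _ hv, S.map_mul', S.inv_apply, S.map_mul', hker u hu]
  obtain ⟨v0, hv0, hv00⟩ : ∃ v ∈ C0, v ≠ (0 : W) := by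
    refine (Submodule.ne_bot_iff _).1 fun h => ?_
    rw [h, finrank_bot] at hC0
    omega
  have hfix1 : ∀ g, S.IsScalar g → S.ρ g v0 = v0 → g = 1 := by
    intro g hg e
    rcases hg with h | h
    · exact S.ext_of_apply fun v => by rw [h, S.map_one']
    · exact absurd (eq_zero_of_eq_neg (e.symm.trans (h v0))) hv00
  by_contra hne
  have hzns : ¬ S.IsScalar z := fun h => hne (by rw [← IsScalar.comm S h S.b]; group)
  have hzz : z * z = 1 := hfix1 _ (hsq z hzX) (by rw [S.map_mul', hC0z v0 hv0, hC0z v0 hv0])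
  set z' := S.b * z * S.b⁻¹ with hz'
  have hz'X : z' ∈ X := hX.conj_mem _ hzX _
  have hC0z' : ∀ v ∈ C0, S.ρ z' v = v := fun v hv => by
    rw [hz', S.map_mul', S.map_mul', hC0bi v hv, hC0z v hv, hC0b v hv]
  set w := z * z' with hw
  have hwX : w ∈ X := mul_mem hzX hz'X
  have hC0w : ∀ v ∈ C0, S.ρ w v = v := fun v hv => by rw [hw, S.map_mul', hC0z' v hv, hC0z v hv]
  have hw1 : ¬ S.IsScalar w := fun h => hne (by
    have := hfix1 _ h (hC0w v0 hv0)
    calc z' = z * z * z' := by rw [hzz, one_mul]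
      _ = z * (z * z') := mul_assoc _ _ _
      _ = z := by rw [show z * z' = 1 from this, mul_one])
  have hww : w * w = 1 := hfix1 _ (hsq w hwX) (by rw [S.map_mul', hC0w v0 hv0, hC0w v0 hv0])
  have hzw : z * w = w * z := commutatorElement_eq_one_iff_mul_comm.1 (hfix1 (z * w * z⁻¹ * w⁻¹)
    (S.commutator_isScalar hsq hzX hwX) (by
      rw [show (z * w * z⁻¹ * w⁻¹) = z * w * z * w by
        rw [inv_eq_of_mul_eq_one_right hzz, inv_eq_of_mul_eq_one_right hww]]
      rw [S.map_mul', S.map_mul', S.map_mul', hC0w v0 hv0, hC0z v0 hv0, hC0w v0 hv0,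
        hC0z v0 hv0]))
  clear_value z z' w
  -- `y` anticommutes with `z` and commutes with `w`; `y'` anticommutes with `w`
  have anti : ∀ g y : G, (∀ v, S.ρ (g * y * g⁻¹ * y⁻¹) v = -v) →
      ∀ v, S.ρ g (S.ρ y v) = -S.ρ y (S.ρ g v) := fun g y h v => by
    have := h (S.ρ y (S.ρ g v))
    rw [← S.map_mul', ← S.map_mul', show g * y * g⁻¹ * y⁻¹ * y * g = g * y by group,
      S.map_mul'] at this
    exact this
  have comm : ∀ g y : G, g * y = y * g → ∀ v, S.ρ g (S.ρ y v) = S.ρ y (S.ρ g v) := fun g y h v => by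
    rw [← S.map_mul', h, S.map_mul']
  obtain ⟨y, hy, hyz, hyw⟩ : ∃ y ∈ X, (∀ v, S.ρ z (S.ρ y v) = -S.ρ y (S.ρ z v)) ∧
      ∀ v, S.ρ w (S.ρ y v) = S.ρ y (S.ρ w v) := by
    by_contra hcon
    push Not at hcon
    have hdich : ∀ g ∈ X, ∀ y ∈ X, (∀ v, S.ρ g (S.ρ y v) = S.ρ y (S.ρ g v)) ∨
        ∀ v, S.ρ g (S.ρ y v) = -S.ρ y (S.ρ g v) := fun g hg y hy => by
      rcases S.commutator_isScalar hsq hg hy with h | h
      · have h1 : g * y * g⁻¹ * y⁻¹ = 1 := S.ext_of_apply fun v => by rw [h, S.map_one']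
        exact Or.inl (comm g y (commutatorElement_eq_one_iff_mul_comm.1 h1))
      · exact Or.inr (anti g y h)
    obtain ⟨y0, hy0, hy0z⟩ := S.exists_neg_commutator hsq hcen hzX hzns
    have hy0w : ∀ v, S.ρ w (S.ρ y0 v) = -S.ρ y0 (S.ρ w v) := by
      rcases hdich w hwX y0 hy0 with h | h
      · obtain ⟨v, hv⟩ := hcon y0 hy0 (anti _ _ hy0z)
        exact absurd (h v) hv
      · exact h
    have hzwns : ¬ S.IsScalar (z * w) := fun h => hne (by
      have := hfix1 _ h (by rw [S.map_mul', hC0w v0 hv0, hC0z v0 hv0])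
      rw [hw, ← mul_assoc, hzz, one_mul] at this
      exact absurd (show S.IsScalar z from by
        rw [show z = S.b⁻¹ * z' * S.b by rw [hz']; group, this]
        rw [mul_one, inv_mul_cancel]; exact S.isScalar_one) hzns)
    apply hzwns
    refine hcen _ (mul_mem hzX hwX) fun y1 hy1 => S.ext_of_apply fun v => ?_
    rw [S.map_mul', S.map_mul', S.map_mul', S.map_mul']
    rcases hdich z hzX y1 hy1 with h1 | h1 <;> rcases hdich w hwX y1 hy1 with h2 | h2
    · rw [h2, h1]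
    · exfalso
      have hp : ∀ v, S.ρ z (S.ρ (y1 * y0) v) = -S.ρ (y1 * y0) (S.ρ z v) := fun v => by
        rw [S.map_mul', h1, anti _ _ hy0z, map_neg, S.map_mul']
      obtain ⟨v', hv'⟩ := hcon _ (mul_mem hy1 hy0) hp
      apply hv'
      rw [S.map_mul', h2, hy0w, map_neg, neg_neg, S.map_mul']
    · obtain ⟨v', hv'⟩ := hcon y1 hy1 h1
      exact absurd (h2 v') hv'
    · rw [h2, map_neg, h1, neg_neg]
  obtain ⟨y', hy', hyw'⟩ := S.exists_neg_commutator hsq hcen hwX hw1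
  have hyw'' := anti _ _ hyw'
  let P := LinearMap.ker (S.ρ w - 1)
  let N := LinearMap.ker (S.ρ w + 1)
  let P1 := P ⊓ LinearMap.ker (S.ρ z - 1)
  let P2 := P ⊓ LinearMap.ker (S.ρ z + 1)
  have mP : ∀ v, v ∈ P ↔ S.ρ w v = v := fun v => by simp [P, sub_eq_zero]
  have mN : ∀ v, v ∈ N ↔ S.ρ w v = -v := fun v => by simp [N, add_eq_zero_iff_eq_neg]
  have mz1 : ∀ v, v ∈ LinearMap.ker (S.ρ z - 1) ↔ S.ρ z v = v := fun v => by simp [sub_eq_zero]
  have mz2 : ∀ v, v ∈ LinearMap.ker (S.ρ z + 1) ↔ S.ρ z v = -v := fun v => by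
    simp [add_eq_zero_iff_eq_neg]
  have inj : ∀ (A B : Submodule (ZMod 3) W) (g : G), (∀ v ∈ A, S.ρ g v ∈ B) →
      finrank (ZMod 3) A ≤ finrank (ZMod 3) B := fun A B g h =>
    LinearMap.finrank_le_finrank_of_injective (f := (S.ρ g).restrict h) fun a c e =>
      Subtype.ext (S.apply_inj g (congrArg Subtype.val e))
  have hPN : P ⊓ N = ⊥ := (Submodule.eq_bot_iff _).2 fun v hv =>
    eq_zero_of_eq_neg (((mP v).1 hv.1).symm.trans ((mN v).1 hv.2))
  have h2P : finrank (ZMod 3) P + finrank (ZMod 3) P ≤ finrank (ZMod 3) W := by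
    have h1 := inj P N y' fun v hv => (mN _).2 (by rw [hyw'', (mP v).1 hv])
    have e := Submodule.finrank_sup_add_finrank_inf_eq P N
    rw [hPN, finrank_bot] at e
    have := Submodule.finrank_le (P ⊔ N)
    omega
  have h2P1 : finrank (ZMod 3) P1 + finrank (ZMod 3) P1 ≤ finrank (ZMod 3) P := by
    have h1 := inj P1 P2 y fun v hv =>
      ⟨(mP _).2 (by rw [hyw, (mP v).1 hv.1]), (mz2 _).2 (by rw [hyz, (mz1 v).1 hv.2])⟩
    have e := Submodule.finrank_sup_add_finrank_inf_eq P1 P2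
    have hbot : P1 ⊓ P2 = ⊥ := (Submodule.eq_bot_iff _).2 fun v hv =>
      eq_zero_of_eq_neg (((mz1 v).1 hv.1.2).symm.trans ((mz2 v).1 hv.2.2))
    rw [hbot, finrank_bot] at e
    have := Submodule.finrank_mono (sup_le inf_le_left inf_le_left : P1 ⊔ P2 ≤ P)
    omega
  have h3 : finrank (ZMod 3) C0 ≤ finrank (ZMod 3) P1 := Submodule.finrank_mono fun v hv =>
    ⟨(mP v).2 (hC0w v hv), (mz1 v).2 (hC0z v hv)⟩
  -- the dimension is even as `y` swaps the eigenspaces of `z`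
  have heven : Even (finrank (ZMod 3) W) := by
    obtain ⟨y0, hy0, hy0z⟩ := S.exists_neg_commutator hsq hcen hzX hzns
    let Z1 := LinearMap.ker (S.ρ z - 1)
    let Z2 := LinearMap.ker (S.ρ z + 1)
    have a1 := inj Z1 Z2 y0 fun v hv => (mz2 _).2 (by rw [anti _ _ hy0z, (mz1 v).1 hv])
    have a2 := inj Z2 Z1 y0 fun v hv => (mz1 _).2 (by rw [anti _ _ hy0z, (mz2 v).1 hv, map_neg, neg_neg])
    have e := Submodule.finrank_sup_add_finrank_inf_eq Z1 Z2
    have hbot : Z1 ⊓ Z2 = ⊥ := (Submodule.eq_bot_iff _).2 fun v hv =>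
      eq_zero_of_eq_neg (((mz1 v).1 hv.1).symm.trans ((mz2 v).1 hv.2))
    have htop : Z1 ⊔ Z2 = ⊤ := by
      rw [Submodule.eq_top_iff']
      intro v
      have hzv : S.ρ z (S.ρ z v) = v := by rw [← S.map_mul', hzz, S.map_one']
      rw [show v = -(v + S.ρ z v) + -(v - S.ρ z v) by
        have h3 : v + v + v = 0 := three_eq v
        calc v = v - (v + v + v) := by rw [h3, sub_zero]
          _ = _ := by abel]
      refine Submodule.add_mem_sup ((mz1 _).2 ?_) ((mz2 _).2 ?_)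
      · rw [map_neg, map_add, hzv, add_comm]
      · rw [map_neg, map_sub, hzv]; abel
    rw [hbot, htop, finrank_top, finrank_bot] at e
    exact ⟨finrank (ZMod 3) Z1, by omega⟩
  obtain ⟨m, hm⟩ := heven
  omega

/-- An extraspecial `R` in dimension four has order `32`. -/
theorem card_of_extraspecial (h4 : finrank (ZMod 3) W = 4)
    (hsq : ∀ x ∈ S.R, S.IsScalar (x * x))
    (hcen : ∀ x ∈ S.R, (∀ y ∈ S.R, x * y = y * x) → S.IsScalar x) :
    IsExtraspecial 2 S.R ∧ Nat.card S.R = 32 ∧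
      ∃ H : Subgroup G, H ≤ S.R ∧ IsElementaryAbelian 2 H ∧ Nat.card H = 8 := by
  classical
  haveI := Fact.mk Nat.prime_two
  obtain ⟨x1, hx1, hx10⟩ := (Submodule.ne_bot_iff _).1 S.L1_ne_bot
  have hqns : ¬ S.IsScalar S.q := by
    rintro (h | h)
    · exact S.q_ne (S.ext_of_apply fun v => by rw [h, S.map_one'])
    · exact hx10 (eq_zero_of_eq_neg ((S.mem_L1.1 hx1).1.symm.trans (h x1)))
  obtain ⟨y0, hy0, hy0q⟩ := S.exists_neg_commutator hsq hcen S.q_mem hqns
  have hE := S.isExtraspecial_of_scalar hsq hcen ⟨S.q, S.q_mem, y0, hy0, fun e => by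
    have := hy0q x1
    rw [e, show y0 * S.q * S.q⁻¹ * y0⁻¹ = 1 by group, S.map_one'] at this
    exact hx10 (eq_zero_of_eq_neg this)⟩
  let q' : S.R := ⟨S.q, S.q_mem⟩
  let q2' : S.R := ⟨S.q2, S.q2_mem⟩
  let H : Subgroup S.R := centralizer ({q', q2'} : Set S.R)
  have memH : ∀ h : S.R, h ∈ H ↔ (h : G) * S.q = S.q * h ∧ (h : G) * S.q2 = S.q2 * h := fun h => by
    constructor
    · intro hh
      exact ⟨(congrArg Subtype.val (Subgroup.mem_centralizer_iff.1 hh q' (by simp))).symm,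
        (congrArg Subtype.val (Subgroup.mem_centralizer_iff.1 hh q2' (by simp))).symm⟩
    · intro hh
      refine Subgroup.mem_centralizer_iff.2 fun a ha => ?_
      simp only [Set.mem_insert_iff, Set.mem_singleton_iff] at ha
      rcases ha with rfl | rfl
      · exact Subtype.ext hh.1.symm
      · exact Subtype.ext hh.2.symm
  have h1 := S.finrank_L1
  have hC : finrank (ZMod 3) S.C = 1 := by
    let F : ((S.C × S.L1) × S.L2) × S.L3 →ₗ[ZMod 3] W :=
      ((S.C.subtype.coprod S.L1.subtype).coprod S.L2.subtype).coprod S.L3.subtype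
    have hF : Function.Bijective F := by
      constructor
      · rw [← LinearMap.ker_eq_bot, Submodule.eq_bot_iff]
        rintro ⟨⟨⟨c, x⟩, y⟩, z⟩ h
        simp only [LinearMap.mem_ker, F, LinearMap.coprod_apply, Submodule.coe_subtype] at h
        obtain ⟨e0, e1, e2, e3⟩ := S.indep c.2 x.2 y.2 z.2 h
        simp only [Prod.mk_eq_zero]
        exact ⟨⟨⟨Subtype.ext e0, Subtype.ext e1⟩, Subtype.ext e2⟩, Subtype.ext e3⟩
      · intro v
        obtain ⟨c, hc, l1, a1, l2, a2, l3, a3, rfl⟩ := S.decomp v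
        exact ⟨(((⟨c, hc⟩, ⟨l1, a1⟩), ⟨l2, a2⟩), ⟨l3, a3⟩), rfl⟩
    have := (LinearEquiv.ofBijective F hF).finrank_eq
    simp only [Module.finrank_prod] at this
    omega
  have hpres : ∀ h ∈ H, ∀ s t : ZMod 3, ∀ v ∈ S.eig s t, S.ρ (h : G) v ∈ S.eig s t := by
    intro h hh s t v hv
    obtain ⟨e1, e2⟩ := (memH h).1 hh
    rw [S.mem_eig] at hv ⊢
    rw [← S.map_mul', ← e1, S.map_mul', hv.1, map_smul, ← S.map_mul', ← e2, S.map_mul', hv.2,
      map_smul]
    exact ⟨rfl, rfl⟩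
  have hline : ∀ s t : ZMod 3, finrank (ZMod 3) (S.eig s t) = 1 → ∀ h ∈ H,
      ∃ c : {c : ZMod 3 // c * c = 1}, ∀ v ∈ S.eig s t, S.ρ (h : G) v = c.1 • v := by
    intro s t hd h hh
    obtain ⟨x, hx, hx0⟩ : ∃ x ∈ S.eig s t, x ≠ 0 := by
      refine (Submodule.ne_bot_iff _).1 fun e => ?_
      rw [e, finrank_bot] at hd; omega
    have key := (finrank_eq_one_iff_of_nonzero' (⟨x, hx⟩ : S.eig s t) (by simpa using hx0)).1 hd
    obtain ⟨c, hc⟩ := key ⟨_, hpres h hh s t x hx⟩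
    have e : S.ρ (h : G) x = c • x := (congrArg Subtype.val hc).symm
    refine ⟨⟨c, sq_one fun h0 => hx0 (S.apply_inj h (by rw [e, h0, zero_smul, map_zero]))⟩,
      fun v hv => ?_⟩
    obtain ⟨d, hd'⟩ := key ⟨v, hv⟩
    have hvd : v = d • x := (congrArg Subtype.val hd').symm
    show S.ρ (h : G) v = c • v
    rw [hvd, map_smul, e]
    exact smul_comm d c x
  choose σ0 hσ0 using hline 1 1 hC
  choose σ1 hσ1 using hline 1 (-1) h1.1
  choose σ2 hσ2 using hline (-1) 1 h1.2.1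
  choose σ3 hσ3 using hline (-1) (-1) h1.2.2
  have hdet : ∀ g g' : H, σ0 g g.2 = σ0 g' g'.2 → σ1 g g.2 = σ1 g' g'.2 → σ2 g g.2 = σ2 g' g'.2 →
      σ3 g g.2 = σ3 g' g'.2 → g = g' := by
    intro g g' e0 e1 e2 e3
    refine Subtype.ext (Subtype.ext (S.ext_of_apply fun v => ?_))
    obtain ⟨c, hc, l1, a1, l2, a2, l3, a3, rfl⟩ := S.decomp v
    simp only [map_add, hσ0 _ g.2 c hc, hσ1 _ g.2 l1 a1, hσ2 _ g.2 l2 a2, hσ3 _ g.2 l3 a3,
      hσ0 _ g'.2 c hc, hσ1 _ g'.2 l1 a1, hσ2 _ g'.2 l2 a2, hσ3 _ g'.2 l3 a3, e0, e1, e2, e3]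
  have hHsq : ∀ g ∈ H, g * g = 1 := fun g hg => by
    refine Subtype.ext (S.ext_of_apply fun v => ?_)
    obtain ⟨c, hc, l1, a1, l2, a2, l3, a3, rfl⟩ := S.decomp v
    simp only [Subgroup.coe_mul, OneMemClass.coe_one, S.map_one', S.map_mul', map_add, map_smul,
      hσ0 _ hg c hc, hσ1 _ hg l1 a1, hσ2 _ hg l2 a2, hσ3 _ hg l3 a3, smul_smul,
      (σ0 g hg).2, (σ1 g hg).2, (σ2 g hg).2, (σ3 g hg).2, one_smul]
  have hHc : IsMulCommutative H := ⟨⟨fun g g' => by
    have a := hHsq _ g.2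
    have b := hHsq _ g'.2
    have c := hHsq _ (mul_mem g.2 g'.2)
    refine Subtype.ext ?_
    calc (g : S.R) * g' = ((g : S.R) * g')⁻¹ := (inv_eq_of_mul_eq_one_right c).symm
      _ = g' * g := by rw [mul_inv_rev, inv_eq_of_mul_eq_one_right a, inv_eq_of_mul_eq_one_right b]⟩⟩
  -- at most sixteen elements, and none of them a reflection
  have h16 : Nat.card H ≤ 16 := by
    let f : H → ({c : ZMod 3 // c * c = 1} × {c : ZMod 3 // c * c = 1}) ×
        ({c : ZMod 3 // c * c = 1} × {c : ZMod 3 // c * c = 1}) :=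
      fun g => ((σ0 g g.2, σ1 g g.2), (σ2 g g.2, σ3 g g.2))
    have hf : Function.Injective f := fun g g' e => by
      simp only [f, Prod.mk.injEq] at e
      exact hdet g g' e.1.1 e.1.2 e.2.1 e.2.2
    refine (Nat.card_le_card_of_injective f hf).trans (le_of_eq ?_)
    rw [Nat.card_eq_fintype_card]; decide
  have hcenH : Subgroup.center S.R ≤ H := fun c hc => Subgroup.mem_centralizer_iff.2 fun a _ =>
    Subgroup.mem_center_iff.1 hc a
  have hCH : centralizer (H : Set S.R) = H := by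
    refine le_antisymm (fun c hc => Subgroup.mem_centralizer_iff.2 fun a ha => ?_) ?_
    · refine Subgroup.mem_centralizer_iff.1 hc a ((memH a).2 ?_)
      simp only [Set.mem_insert_iff, Set.mem_singleton_iff] at ha
      rcases ha with rfl | rfl
      · exact ⟨rfl, S.q_comm.eq⟩
      · exact ⟨S.q_comm.symm.eq, rfl⟩
    · exact fun c hc => Subgroup.mem_centralizer_iff.2 fun a ha =>
        congrArg Subtype.val (mul_comm' (⟨a, ha⟩ : H) ⟨c, hc⟩)
  have hne16 : Nat.card H ≠ 16 := by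
    intro e16
    let f : H → ({c : ZMod 3 // c * c = 1} × {c : ZMod 3 // c * c = 1}) ×
        ({c : ZMod 3 // c * c = 1} × {c : ZMod 3 // c * c = 1}) :=
      fun g => ((σ0 g g.2, σ1 g g.2), (σ2 g g.2, σ3 g g.2))
    have hf : Function.Injective f := fun g g' e => by
      simp only [f, Prod.mk.injEq] at e
      exact hdet g g' e.1.1 e.1.2 e.2.1 e.2.2
    have hb := (Nat.bijective_iff_injective_and_card f).2 ⟨hf, by
      rw [e16, Nat.card_eq_fintype_card]; decide⟩
    obtain ⟨g, hg⟩ := hb.2 ((⟨-1, by decide⟩, ⟨1, by decide⟩), (⟨1, by decide⟩, ⟨1, by decide⟩))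
    simp only [f, Prod.mk.injEq] at hg
    set r := ((g : S.R) : G) with hr
    have hval : ∀ c ∈ S.C, ∀ l1 ∈ S.L1, ∀ l2 ∈ S.L2, ∀ l3 ∈ S.L3,
        S.ρ r (c + l1 + l2 + l3) = -c + l1 + l2 + l3 := by
      intro c hc l1 a1 l2 a2 l3 a3
      simp only [hr, map_add, hσ0 _ g.2 c hc, hσ1 _ g.2 l1 a1, hσ2 _ g.2 l2 a2, hσ3 _ g.2 l3 a3,
        hg.1.1, hg.1.2, hg.2.1, hg.2.2, neg_smul, one_smul]
    have hrns : ¬ S.IsScalar r := by
      obtain ⟨xc, hxc, hxc0⟩ : ∃ x ∈ S.C, x ≠ 0 := by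
        refine (Submodule.ne_bot_iff _).1 fun e => ?_
        rw [e, finrank_bot] at hC; omega
      rintro (h | h)
      · have := hval xc hxc 0 S.L1.zero_mem 0 S.L2.zero_mem 0 S.L3.zero_mem
        simp only [add_zero] at this
        exact hxc0 (eq_zero_of_eq_neg ((h xc).symm.trans this))
      · have := hval 0 S.C.zero_mem x1 hx1 0 S.L2.zero_mem 0 S.L3.zero_mem
        simp only [add_zero, zero_add, neg_zero] at this
        exact hx10 (eq_zero_of_eq_neg (this.symm.trans (h x1)))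
    obtain ⟨y, hy, hyr⟩ := S.exists_neg_commutator hsq hcen (g : S.R).2 hrns
    have hanti : ∀ v, S.ρ r (S.ρ y v) = -S.ρ y (S.ρ r v) := fun v => by
      have := hyr (S.ρ y (S.ρ r v))
      rw [← S.map_mul', ← S.map_mul', show r * y * r⁻¹ * y⁻¹ * y * r = r * y by group,
        S.map_mul'] at this
      exact this
    -- `y` maps the three fixed lines into the line `C`
    let Φ : (S.L1 × S.L2) × S.L3 →ₗ[ZMod 3] W :=
      (S.ρ y).comp ((S.L1.subtype.coprod S.L2.subtype).coprod S.L3.subtype)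
    have hΦ : Function.Injective Φ := by
      rw [← LinearMap.ker_eq_bot, Submodule.eq_bot_iff]
      rintro ⟨⟨x, z⟩, u⟩ h
      simp only [LinearMap.mem_ker, Φ, LinearMap.comp_apply, LinearMap.coprod_apply,
        Submodule.coe_subtype] at h
      obtain ⟨-, e1, e2, e3⟩ := S.indep S.C.zero_mem x.2 z.2 u.2
        (by rw [zero_add]; exact S.apply_inj y (h.trans (map_zero _).symm))
      simp only [Prod.mk_eq_zero]
      exact ⟨⟨Subtype.ext e1, Subtype.ext e2⟩, Subtype.ext e3⟩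
    have hle : LinearMap.range Φ ≤ S.C := by
      rintro _ ⟨⟨⟨x, z⟩, u⟩, rfl⟩
      obtain ⟨c, hc, l1, a1, l2, a2, l3, a3, e⟩ := S.decomp (Φ ((x, z), u))
      have h0 : S.ρ r (Φ ((x, z), u)) = -Φ ((x, z), u) := by
        simp only [Φ, LinearMap.comp_apply, LinearMap.coprod_apply, Submodule.coe_subtype]
        rw [hanti]
        have := hval 0 S.C.zero_mem x x.2 z z.2 u u.2
        simp only [neg_zero, zero_add] at this
        rw [this]
      rw [e, hval c hc l1 a1 l2 a2 l3 a3] at h0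
      obtain ⟨-, e1, e2, e3⟩ := S.indep S.C.zero_mem (S.L1.add_mem a1 a1) (S.L2.add_mem a2 a2)
        (S.L3.add_mem a3 a3) (by
          calc 0 + (l1 + l1) + (l2 + l2) + (l3 + l3)
              = (-c + l1 + l2 + l3) + (c + l1 + l2 + l3) := by abel
            _ = 0 := by rw [h0]; abel)
      rw [e, eq_zero_of_eq_neg (eq_neg_of_add_eq_zero_left e1),
        eq_zero_of_eq_neg (eq_neg_of_add_eq_zero_left e2),
        eq_zero_of_eq_neg (eq_neg_of_add_eq_zero_left e3)]
      simpa using hc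
    have := Submodule.finrank_mono hle
    rw [LinearMap.finrank_range_of_inj hΦ, Module.finrank_prod, Module.finrank_prod] at this
    omega
  have hge : 5 ≤ Nat.card H := by
    obtain ⟨⟨c, hc⟩, hc1'⟩ := (Subgroup.ne_bot_iff_exists_ne_one (H := Subgroup.center S.R)).1
      (fun e => by
        have h2 := hE.2
        rw [Subgroup.card_eq_one.2 e] at h2
        exact absurd h2 (by norm_num))
    have hc1 : c ≠ 1 := fun e => hc1' (Subtype.ext e)
    have hcscal : S.IsScalar (c : G) := hcen c c.2 fun z hz =>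
      (congrArg Subtype.val (Subgroup.mem_center_iff.1 hc ⟨z, hz⟩)).symm
    have hcneg : ∀ v, S.ρ (c : G) v = -v := by
      rcases hcscal with h | h
      · exact absurd (Subtype.ext (S.ext_of_apply fun v => by rw [h, OneMemClass.coe_one, S.map_one'])) hc1
      · exact h
    obtain ⟨x2, hx2, hx20⟩ : ∃ x ∈ S.L2, x ≠ 0 := ⟨_, S.b_mem_L2 hx1, fun h => hx10 (S.apply_inj S.b (by rw [h, map_zero]))⟩
    let qq : S.R := q' * q2'
    have memq : q' ∈ H := (memH _).2 ⟨rfl, S.q_comm.eq⟩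
    have memq2 : q2' ∈ H := (memH _).2 ⟨S.q_comm.symm.eq, rfl⟩
    have key : ∀ a a' : S.R, (S.ρ (a : G) x1 ≠ S.ρ (a' : G) x1 ∨ S.ρ (a : G) x2 ≠ S.ρ (a' : G) x2) →
        a ≠ a' := fun a a' h e => by subst e; simp at h
    have v1 := (S.mem_L1.1 hx1)
    have v2 := (S.mem_L2.1 hx2)
    have n1 : -x1 ≠ x1 := fun h => hx10 (eq_zero_of_eq_neg h.symm)
    have n2 : -x2 ≠ x2 := fun h => hx20 (eq_zero_of_eq_neg h.symm)
    let T : Finset S.R := {1, q', q2', qq, c}
    have hT : T.card = 5 := by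
      have a1 : (1 : S.R) ≠ q' := key _ _ (Or.inr (by simp [q', S.map_one', v2.1, n2.symm]))
      have a2 : (1 : S.R) ≠ q2' := key _ _ (Or.inl (by simp [q2', S.map_one', v1.2, n1.symm]))
      have a3 : (1 : S.R) ≠ qq := key _ _ (Or.inr (by simp [qq, q', q2', S.map_one', S.map_mul', v2.1, v2.2, n2.symm]))
      have a4 : (1 : S.R) ≠ c := key _ _ (Or.inl (by simp [S.map_one', hcneg, n1.symm]))
      have a5 : q' ≠ q2' := key _ _ (Or.inl (by simp [q', q2', v1.1, v1.2, n1.symm]))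
      have a6 : q' ≠ qq := key _ _ (Or.inl (by simp [q', qq, q2', S.map_mul', v1.1, v1.2, n1.symm]))
      have a7 : q' ≠ c := key _ _ (Or.inl (by simp [q', hcneg, v1.1, n1.symm]))
      have a8 : q2' ≠ qq := key _ _ (Or.inr (by simp [q', qq, q2', S.map_mul', v2.1, v2.2, n2.symm]))
      have a9 : q2' ≠ c := key _ _ (Or.inr (by simp [q2', hcneg, v2.2, n2.symm]))
      have a10 : qq ≠ c := fun h => by
        have v3 := S.mem_L3.1 (S.b_mem_L3 hx2)
        have h3 := hcneg (S.ρ S.b x2)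
        rw [← h] at h3
        simp only [qq, q', q2', Subgroup.coe_mul, S.map_mul', v3.2, map_neg, v3.1, neg_neg] at h3
        exact hx20 (S.apply_inj S.b (by rw [map_zero]; exact eq_zero_of_eq_neg h3))
      simp [T, a1, a2, a3, a4, a5, a6, a7, a8, a9, a10]
    have hTH : T ⊆ ((H : Set S.R).toFinite.toFinset) := fun a ha => by
      simp only [T, Finset.mem_insert, Finset.mem_singleton] at ha
      rw [Set.Finite.mem_toFinset]
      rcases ha with rfl | rfl | rfl | rfl | rfl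
      exacts [one_mem _, memq, memq2, mul_mem memq memq2, hcenH hc]
    have := Finset.card_le_card hTH
    rw [hT, ← Set.ncard_eq_toFinset_card] at this
    rwa [← SetLike.coe_sort_coe, Nat.card_coe_set_eq]
  obtain ⟨n, -, hn, -⟩ := PGroup.extraspecial_card hE
  have hmul := PGroup.extraspecial_card_mul_card_centralizer hE hcenH
  rw [hCH, hn] at hmul
  obtain ⟨k, hk⟩ := (hE.1.1.to_subgroup H).exists_card_eq
  rw [hk] at hmul h16 hne16 hge
  have hkn : k + k = 2 * n + 1 + 1 := by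
    apply Nat.pow_right_injective (le_refl 2)
    show 2 ^ (k + k) = 2 ^ (2 * n + 1 + 1)
    rw [pow_add, hmul, pow_succ 2 (2 * n + 1), mul_comm]
  have hk3 : k = 3 := by
    have h4k : k ≤ 4 := (Nat.pow_le_pow_iff_right (le_refl 2)).1 (show 2 ^ k ≤ 2 ^ 4 from h16)
    interval_cases k <;> simp at hge hne16 <;> rfl
  refine ⟨hE, ?_, H.map S.R.subtype, by rintro _ ⟨a, -, rfl⟩; exact a.2, ⟨?_, ?_⟩, ?_⟩
  · rw [hn, show n = 2 by omega]; norm_num
  · exact ⟨⟨by
      rintro ⟨_, a, ha, rfl⟩ ⟨_, c, hc, rfl⟩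
      exact Subtype.ext (congrArg S.R.subtype (congrArg Subtype.val (mul_comm' (⟨a, ha⟩ : H) ⟨c, hc⟩)))⟩⟩
  · rintro _ ⟨a, ha, rfl⟩
    rw [← map_pow, pow_two, hHsq a ha, map_one]
  · rw [Subgroup.card_map_of_injective S.R.subtype_injective, hk, hk3]; rfl

theorem mem_pCore_of_isPGroup {K : Subgroup G} (hK : K.Normal) (hKR : K ≤ S.R)
    (h2 : IsPGroup 2 K) : K ≤ (pCore 2 S.R).map S.R.subtype := by
  haveI := Fact.mk Nat.prime_two
  haveI : (K.subgroupOf S.R).Normal := Subgroup.normal_subgroupOf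
  have hle : K.subgroupOf S.R ≤ pCore 2 S.R := PCore.le_pCore h2.comap_subtype
  have := Subgroup.map_mono (f := S.R.subtype) hle
  rwa [Subgroup.subgroupOf_map_subtype, inf_eq_left.2 hKR] at this

include S in
theorem card_R_dvd : Nat.card S.R ∣ ∏ i : Fin (finrank (ZMod 3) W),
    (3 ^ finrank (ZMod 3) W - 3 ^ (i : ℕ)) := by
  have h := Matrix.card_GL_field (𝔽 := ZMod 3) (finrank (ZMod 3) W)
  rw [ZMod.card] at h
  rw [← h, ← Nat.card_congr (Units.mapEquiv (LinearMap.toMatrixAlgEquiv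
    (Module.finBasis (ZMod 3) W)).toRingEquiv.toMulEquiv).toEquiv]
  let f : S.R →* (W →ₗ[ZMod 3] W)ˣ := (S.ρ.comp S.R.subtype).toHomUnits
  exact Subgroup.card_dvd_of_injective f fun x y e => Subtype.ext (S.inj (congrArg Units.val e))

/-- In dimension at most four `R` is its own largest normal `2`-subgroup. -/
theorem le_of_dim_le_four (h4 : finrank (ZMod 3) W = 4) (X : Subgroup G) [hX : X.Normal]
    (hXR : X ≤ S.R) (hX2 : IsPGroup 2 X)
    (hmax : ∀ K : Subgroup G, K.Normal → K ≤ S.R → IsPGroup 2 K → K ≤ X)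
    (hC : S.R ⊓ centralizer (X : Set G) ≤ X) : S.R ≤ X := by
  haveI := Fact.mk Nat.prime_two
  haveI := S.Rn
  haveI := S.sol
  have hdvd := S.card_R_dvd
  rw [h4] at hdvd
  simp [Fin.prod_univ_succ] at hdvd
  have hdiv13 : ¬ 13 ∣ Nat.card S.R := by
    intro h
    haveI : Fact (Nat.Prime 13) := ⟨by norm_num⟩
    obtain ⟨g, hg⟩ := exists_prime_orderOf_dvd_card' 13 h
    have hgG : orderOf (g : G) = 13 := by rw [Subgroup.orderOf_coe, hg]
    let Z := Subgroup.zpowers (g : G)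
    letI : MulAction Z X := MulAction.compHom X ((MulAut.conjNormal (H := X)).comp Z.subtype)
    have hsmul : ∀ (i : Z) (c : X), ((i • c : X) : G) = i * c * (i : G)⁻¹ := fun i c => rfl
    have hZ : IsPGroup 13 Z := IsPGroup.of_card (n := 1) (by rw [Nat.card_zpowers, hgG, pow_one])
    have hmod := hZ.card_modEq_card_fixedPoints X
    let F : Subgroup X := (centralizer ({(g : G)} : Set G)).subgroupOf X
    have hF : Nat.card (MulAction.fixedPoints Z X) = Nat.card F := by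
      refine Nat.card_congr (Equiv.subtypeEquivRight fun c => ?_)
      simp only [MulAction.mem_fixedPoints, F, Subgroup.mem_subgroupOf,
        Subgroup.mem_centralizer_singleton_iff]
      constructor
      · intro hc
        have := congrArg Subtype.val (hc ⟨g, Subgroup.mem_zpowers _⟩)
        rw [hsmul] at this
        exact (mul_inv_eq_iff_eq_mul.1 this).symm
      · rintro hc ⟨_, i, rfl⟩
        refine Subtype.ext ?_
        rw [hsmul]
        have : Commute (g : G) c := hc.symm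
        exact mul_inv_eq_iff_eq_mul.2 (this.zpow_left i).eq
    rw [hF] at hmod
    obtain ⟨i, hi⟩ := hX2.exists_card_eq
    obtain ⟨j, hj⟩ := (hX2.to_subgroup F).exists_card_eq
    have hj_le : j ≤ i := by
      have := Subgroup.card_subgroup_dvd_card F
      rw [hi, hj] at this
      exact (Nat.pow_dvd_pow_iff_le_right (by norm_num)).1 this
    have hi9 : i ≤ 9 := by
      have h2 : 2 ^ i ∣ 2 ^ 9 * 47385 := by
        rw [← hi]; exact ((Subgroup.card_dvd_of_le hXR).trans hdvd).trans (by norm_num)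
      exact (Nat.pow_dvd_pow_iff_le_right (by norm_num)).1
        ((Nat.Coprime.pow_left i (by norm_num)).dvd_of_dvd_mul_right h2)
    rw [hi, hj] at hmod
    have hij : i = j := by
      interval_cases i <;> interval_cases j <;> first | rfl | exact absurd hmod (by decide)
    have hFtop : F = ⊤ := Subgroup.eq_top_of_card_eq F (by rw [hi, hj, hij])
    have hgX : (g : G) ∈ X := hC ⟨g.2, Subgroup.mem_centralizer_iff.2 fun c hc => by
      have := hFtop ▸ Subgroup.mem_top (⟨c, hc⟩ : X)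
      exact Subgroup.mem_centralizer_singleton_iff.1 this⟩
    obtain ⟨k, hk⟩ := (IsPGroup.iff_orderOf.1 hX2) ⟨g, hgX⟩
    rw [← Subgroup.orderOf_coe, hgG] at hk
    have := (Nat.prime_dvd_prime_iff_eq (by norm_num : Nat.Prime 13) Nat.prime_two).1
      ((by norm_num : Nat.Prime 13).dvd_of_dvd_pow (show 13 ∣ 2 ^ k from hk ▸ dvd_refl 13))
    norm_num at this
  by_contra hne
  set π := QuotientGroup.mk' X with hπ
  set Rb := S.R.map π with hRb
  haveI hRbn : Rb.Normal := S.Rn.map π (QuotientGroup.mk'_surjective _)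
  have hker : ∀ K : Subgroup (G ⧸ X), K ≤ Rb → (K.comap π) ≤ S.R := fun K hK => by
    refine (Subgroup.comap_mono hK).trans ?_
    rw [hRb, Subgroup.comap_map_eq, QuotientGroup.ker_mk']
    exact sup_le le_rfl hXR
  have hno2 : ∀ K : Subgroup (G ⧸ X), K.Normal → K ≤ Rb → IsPGroup 2 K → K = ⊥ := by
    intro K hK hKR hK2
    have h1 := hmax (K.comap π) (hK.comap π) (hker K hKR)
      (hK2.comap_of_ker_isPGroup π (by rw [hπ, QuotientGroup.ker_mk']; exact hX2))
    rw [eq_bot_iff, ← Subgroup.map_comap_eq_self_of_surjective (QuotientGroup.mk'_surjective X) K]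
    rintro _ ⟨a, ha, rfl⟩
    exact (QuotientGroup.eq_one_iff a).2 (h1 ha)
  have hRb0 : Rb ≠ ⊥ := fun e => hne (by
    rwa [hRb, Subgroup.map_eq_bot_iff, hπ, QuotientGroup.ker_mk'] at e)
  have hcard : Nat.card Rb ∣ Nat.card S.R := Subgroup.card_map_dvd _ _
  have hsolb : Group.IsSolvable Rb :=
    Group.isSolvable_of_surjective (π.subgroupMap_surjective S.R)
  obtain ⟨N, r, hNn, hNR, hN0, -, -, hr, hNr⟩ := Solvable.exists_abelian_minimal_normal hsolb hRb0
  haveI := Fact.mk hr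
  obtain ⟨i, hi⟩ := hNr.exists_card_eq
  have hi0 : i ≠ 0 := fun e => hN0 (Subgroup.card_eq_one.1 (by rw [hi, e, pow_zero]))
  have hri : r ^ i ∣ Nat.card S.R := hi ▸ (Subgroup.card_dvd_of_le hNR).trans hcard
  have hrR : r ∣ Nat.card S.R := (dvd_pow_self r hi0).trans hri
  have hr5 : r = 5 := by
    have hd : r ∣ 2 ^ 9 * 3 ^ 6 * 5 * 13 := (hrR.trans hdvd).trans (by norm_num)
    have e2 : r ≠ 2 := fun e => hN0 (hno2 N hNn hNR (e ▸ hNr))
    have e3 : r ≠ 3 := fun e => by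
      have := S.cop.coprime_dvd_left (e ▸ hrR)
      norm_num at this
    have e13 : r ≠ 13 := fun e => hdiv13 (e ▸ hrR)
    rcases hr.dvd_mul.1 hd with hd | hd
    rcases hr.dvd_mul.1 hd with hd | hd
    rcases hr.dvd_mul.1 hd with hd | hd
    · exact absurd ((Nat.prime_dvd_prime_iff_eq hr Nat.prime_two).1 (hr.dvd_of_dvd_pow hd)) e2
    · exact absurd ((Nat.prime_dvd_prime_iff_eq hr Nat.prime_three).1 (hr.dvd_of_dvd_pow hd)) e3
    · exact (Nat.prime_dvd_prime_iff_eq hr (by norm_num)).1 hd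
    · exact absurd ((Nat.prime_dvd_prime_iff_eq hr (by norm_num)).1 hd) e13
  subst hr5
  have hi1 : i = 1 := by
    by_contra h
    have : 5 ^ 2 ∣ 2 ^ 9 * 3 ^ 6 * 5 * 13 :=
      (((pow_dvd_pow 5 (by omega : 2 ≤ i)).trans hri).trans hdvd).trans (by norm_num)
    norm_num at this
  subst hi1
  have hN5 : Nat.card N = 5 := by rw [hi, pow_one]
  obtain ⟨n0, hn0⟩ : ∃ n0 : G ⧸ X, Subgroup.zpowers n0 = N := by
    haveI := isCyclic_of_prime_card hN5
    obtain ⟨⟨n0, hn0⟩, hg⟩ := IsCyclic.exists_generator (α := N)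
    refine ⟨n0, le_antisymm (Subgroup.zpowers_le.2 hn0) fun x hx => ?_⟩
    obtain ⟨j, hj⟩ := hg ⟨x, hx⟩
    exact ⟨j, congrArg Subtype.val hj⟩
  have hn0N : n0 ∈ N := hn0 ▸ Subgroup.mem_zpowers n0
  have hconjcomm : ∀ x y : G ⧸ X, x * (y * n0 * y⁻¹) * x⁻¹ = y * (x * n0 * x⁻¹) * y⁻¹ := by
    intro x y
    obtain ⟨a, ha⟩ : x * n0 * x⁻¹ ∈ Subgroup.zpowers n0 := hn0.symm ▸ hNn.conj_mem _ hn0N _
    obtain ⟨c, hc⟩ : y * n0 * y⁻¹ ∈ Subgroup.zpowers n0 := hn0.symm ▸ hNn.conj_mem _ hn0N _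
    simp only at ha hc
    rw [← hc, ← ha, ← conj_zpow, ← conj_zpow, ← hc, ← ha, ← zpow_mul, ← zpow_mul, mul_comm]
  set bb := π S.b with hbb
  have hcommb : ⁅Rb, Subgroup.zpowers bb⁆ = Rb := by
    rw [hbb, ← MonoidHom.map_zpowers, hRb, ← Subgroup.map_commutator, S.comm]
  have hCN : Rb ≤ centralizer ({n0} : Set (G ⧸ X)) := by
    rw [← hcommb]
    refine Subgroup.commutator_le.2 fun x _ y _ => Subgroup.mem_centralizer_singleton_iff.2 ?_
    apply mul_inv_eq_iff_eq_mul.1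
    calc ⁅x, y⁆ * n0 * ⁅x, y⁆⁻¹ = x * (y * (x⁻¹ * (y⁻¹ * n0 * y) * x) * y⁻¹) * x⁻¹ := by
          rw [commutatorElement_def]; group
      _ = x * (y * (y⁻¹ * (x⁻¹ * n0 * x) * y) * y⁻¹) * x⁻¹ := by
          have := hconjcomm x⁻¹ y⁻¹
          simp only [inv_inv] at this
          rw [this]
      _ = n0 := by group
  -- `N` is central in `Rb` and `Rb / N` is a `2`-group, so `Rb` is nilpotent
  haveI : Fact (Nat.Prime 5) := ⟨by norm_num⟩
  obtain ⟨T⟩ : Nonempty (Sylow 2 Rb) := inferInstance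
  have hTn : (T : Subgroup Rb).Normal := by
    rw [← Subgroup.normalizer_eq_top_iff, ← Subgroup.index_eq_one]
    have h1 : (Subgroup.normalizer ((T : Subgroup Rb) : Set Rb)).index ∣ (T : Subgroup Rb).index :=
      Subgroup.index_dvd_of_le Subgroup.le_normalizer
    have hNle : N.subgroupOf Rb ≤ Subgroup.normalizer ((T : Subgroup Rb) : Set Rb) := by
      refine le_trans ?_ (Subgroup.centralizer_le_normalizer _)
      intro c hc
      refine Subgroup.mem_centralizer_iff.2 fun t _ => Subtype.ext ?_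
      obtain ⟨j, hj⟩ : (c : G ⧸ X) ∈ Subgroup.zpowers n0 := hn0.symm ▸ hc
      simp only at hj
      show (t : G ⧸ X) * c = c * t
      rw [← hj]
      exact ((show Commute (t : G ⧸ X) n0 from
        Subgroup.mem_centralizer_singleton_iff.1 (hCN t.2)).zpow_right j).eq
    have h2 := h1
    have h3 : (Subgroup.normalizer ((T : Subgroup Rb) : Set Rb)).index ∣ (N.subgroupOf Rb).index :=
      Subgroup.index_dvd_of_le hNle
    have hodd : ¬ 2 ∣ (T : Subgroup Rb).index := T.not_dvd_index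
    have hidx : (N.subgroupOf Rb).index ∣ 2 ^ 9 := by
      have e := Subgroup.card_mul_index (N.subgroupOf Rb)
      rw [Nat.card_congr (Subgroup.subgroupOfEquivOfLe hNR).toEquiv, hN5] at e
      have hd : 5 * (N.subgroupOf Rb).index ∣ 2 ^ 9 * 3 ^ 6 * 5 * 13 :=
        e ▸ (hcard.trans hdvd).trans (by norm_num)
      have hd' : (N.subgroupOf Rb).index ∣ 2 ^ 9 * (3 ^ 6 * 13) := by
        refine (Nat.mul_dvd_mul_iff_left (by norm_num : 0 < 5)).1 (hd.trans (by norm_num))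
      have hidR : (N.subgroupOf Rb).index ∣ Nat.card S.R :=
        (Dvd.intro_left _ e).trans hcard
      have c3 : (N.subgroupOf Rb).index.Coprime (3 ^ 6) :=
        (S.cop.coprime_dvd_left hidR).pow_right 6
      have c13 : (N.subgroupOf Rb).index.Coprime 13 := by
        rw [Nat.coprime_comm, (by norm_num : Nat.Prime 13).coprime_iff_not_dvd]
        exact fun h => hdiv13 (h.trans hidR)
      exact (c3.mul_right c13).dvd_of_dvd_mul_right hd'
    exact Nat.eq_one_of_dvd_coprimes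
      (((Nat.prime_two.coprime_iff_not_dvd.2 hodd).pow_left 9).symm) h2 (h3.trans hidx)
  have hT1 : (T : Subgroup Rb) = ⊥ := by
    haveI := hTn
    have hle : (T : Subgroup Rb) ≤ pCore 2 Rb := PCore.le_pCore T.2
    have := hno2 ((pCore 2 Rb).map Rb.subtype) inferInstance (Subgroup.map_subtype_le _)
      ((PCore.isPGroup_pCore (G := Rb) (p := 2)).map _)
    rw [Subgroup.map_eq_bot_iff_of_injective _ Rb.subtype_injective] at this
    exact le_bot_iff.1 (this ▸ hle)
  have hodd : ¬ 2 ∣ Nat.card Rb := by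
    have := T.not_dvd_index
    rwa [hT1, Subgroup.index_bot] at this
  have hRbN : Rb ≤ N := by
    refine (Subgroup.eq_of_le_of_card_ge hNR ?_).ge
    rw [hN5]
    refine Nat.le_of_dvd (by norm_num) ?_
    have hd : Nat.card Rb ∣ 5 * (2 ^ 9 * 3 ^ 6 * 13) := (hcard.trans hdvd).trans (by norm_num)
    refine (Nat.Coprime.dvd_of_dvd_mul_right ?_ hd)
    refine Nat.Coprime.mul_right (Nat.Coprime.mul_right ?_ ?_) ?_
    · exact (Nat.prime_two.coprime_iff_not_dvd.2 hodd).symm.pow_right 9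
    · exact (S.cop.coprime_dvd_left hcard).pow_right 6
    · rw [Nat.coprime_comm, (by norm_num : Nat.Prime 13).coprime_iff_not_dvd]
      exact fun h => hdiv13 (h.trans hcard)
  have hbn : Commute bb n0 := by
    have hb3 : bb ^ 3 = 1 := by rw [hbb, ← map_pow, S.b3, map_one]
    obtain ⟨a, ha⟩ : bb * n0 * bb⁻¹ ∈ Subgroup.zpowers n0 := hn0.symm ▸ hNn.conj_mem _ hn0N _
    simp only at ha
    have ho : orderOf n0 = 5 := by rw [← Nat.card_zpowers, hn0, hN5]
    have e1 : ∀ z : ℤ, bb * n0 ^ z * bb⁻¹ = n0 ^ (a * z) := fun z => by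
      rw [← conj_zpow, ← ha, ← zpow_mul]
    have e3 : n0 ^ (a * (a * a)) = n0 := by
      calc n0 ^ (a * (a * a)) = bb * (bb * (bb * n0 * bb⁻¹) * bb⁻¹) * bb⁻¹ := by
            rw [← ha, e1, e1]
        _ = bb ^ 3 * n0 * (bb ^ 3)⁻¹ := by rw [pow_succ, pow_two]; group
        _ = n0 := by rw [hb3]; group
    have h5 : (5 : ℤ) ∣ a * (a * a) - 1 := by
      have : n0 ^ (a * (a * a) - 1) = 1 := by rw [zpow_sub, e3, zpow_one, mul_inv_cancel]
      have h := orderOf_dvd_iff_zpow_eq_one.2 this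
      rwa [ho] at h
    have h5' : (5 : ℤ) ∣ a - 1 := by
      have key := zmod5_cube
      have h' := (ZMod.intCast_eq_intCast_iff_dvd_sub 1 (a * (a * a)) 5).2 h5
      push_cast at h'
      refine (ZMod.intCast_eq_intCast_iff_dvd_sub 1 a 5).1 ?_
      rw [key _ h'.symm]; norm_num
    have : n0 ^ (a - 1) = 1 := orderOf_dvd_iff_zpow_eq_one.1 (by rw [ho]; exact h5')
    rw [zpow_sub, zpow_one, mul_inv_eq_one] at this
    exact mul_inv_eq_iff_eq_mul.1 (ha.symm.trans this)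
  apply hRb0
  rw [← hcommb, Subgroup.commutator_eq_bot_iff_le_centralizer]
  intro x hx
  refine Subgroup.mem_centralizer_iff.2 ?_
  rintro _ ⟨i, rfl⟩
  obtain ⟨j, rfl⟩ : x ∈ Subgroup.zpowers n0 := hn0.symm ▸ hRbN hx
  exact ((hbn.zpow_left i).zpow_right j).eq

include S in
/-- **Structure of `R`**. -/
theorem conclusion : (IsElementaryAbelian 2 S.R ∧ Nat.card S.R = 4) ∨
    (IsExtraspecial 2 S.R ∧ Nat.card S.R = 32 ∧
      ∃ H : Subgroup G, H ≤ S.R ∧ IsElementaryAbelian 2 H ∧ Nat.card H = 8) := by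
  haveI := Fact.mk Nat.prime_two
  haveI := S.Rn
  haveI := S.sol
  by_cases hab : ∃ A : Subgroup G, A.Normal ∧ IsMulCommutative A ∧ A ≤ S.R ∧ ∃ a ∈ A, ¬ S.IsScalar a
  · obtain ⟨A, hA, hAc, hAR, hns⟩ := hab
    obtain ⟨A2, h1, h2, h3, h4, h5⟩ := S.exists_elementary A hA hAR hns
    rcases S.monomial A2 h3 h4 h5 with h | ⟨e4, e5, e6⟩
    · exact Or.inl h
    · exact Or.inr (S.card_of_extraspecial e4 e5 e6)
  push Not at hab
  right
  -- there are no normal subgroups of odd order inside `R`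
  have hodd : ∀ M : Subgroup S.R, M.Normal → Odd (Nat.card M) → M = ⊥ := by
    intro M hMn hM
    by_contra hM0
    have hle : M ≤ oddCore S.R := PCore.le_oddCore hM
    set O := (oddCore S.R).map S.R.subtype with hO
    have hOn : O.Normal := by rw [hO]; infer_instance
    have hO0 : O ≠ ⊥ := by
      rw [hO, Ne, Subgroup.map_eq_bot_iff_of_injective _ S.R.subtype_injective]
      exact fun e => hM0 (le_bot_iff.1 (e ▸ hle))
    have hOc : Odd (Nat.card O) := by
      rw [hO, Subgroup.card_map_of_injective S.R.subtype_injective]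
      exact PCore.odd_card_oddCore
    obtain ⟨N, r, hNn, hNO, hN0, -, hNc, -, -⟩ := Solvable.exists_abelian_minimal_normal
      (K := O) (Group.isSolvable_of_isSolvable_injective
        (f := Subgroup.inclusion (Subgroup.map_subtype_le _ : O ≤ S.R)) (Subgroup.inclusion_injective _)) hO0
    exact hN0 (S.odd_eq_bot hNn (hNO.trans (Subgroup.map_subtype_le _))
      (hOc.of_dvd_nat (Subgroup.card_dvd_of_le hNO)))
  set X := (pCore 2 S.R).map S.R.subtype with hXdef
  haveI hXn : X.Normal := by rw [hXdef]; infer_instance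
  have hXR : X ≤ S.R := Subgroup.map_subtype_le _
  have hX2 : IsPGroup 2 X := (PCore.isPGroup_pCore (G := S.R) (p := 2)).map _
  have hC : S.R ⊓ centralizer (X : Set G) ≤ X := by
    intro g hg
    have h := SolvableTwo.centralizer_pCore_two_le (G := S.R) S.sol hodd
      (x := ⟨g, hg.1⟩) (Subgroup.mem_centralizer_iff.2 fun a ha =>
        Subtype.ext (Subgroup.mem_centralizer_iff.1 hg.2 a ⟨a, ha, rfl⟩))
    exact ⟨⟨g, hg.1⟩, h, rfl⟩
  -- `Y / Z(X)` is the centre of `X / Z(X)`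
  let Y : Subgroup G :=
    { carrier := {y | y ∈ X ∧ ∀ x ∈ X, S.IsScalar (y * x * y⁻¹ * x⁻¹)}
      one_mem' := ⟨one_mem _, fun x _ => by simpa using S.isScalar_one⟩
      mul_mem' := fun {a c} ha hc => ⟨mul_mem ha.1 hc.1, fun x hx => by
        rw [show a * c * x * (a * c)⁻¹ * x⁻¹ = a * (c * x * c⁻¹ * x⁻¹) * a⁻¹ * (a * x * a⁻¹ * x⁻¹)
          by group, ← IsScalar.comm S (hc.2 x hx) a, mul_inv_cancel_right]
        exact (hc.2 x hx).mul S (ha.2 x hx)⟩
      inv_mem' := fun {a} ha => ⟨inv_mem ha.1, fun x hx => by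
        have h := ha.2 x hx
        have e : a⁻¹ * x * a⁻¹⁻¹ * x⁻¹ = a⁻¹ * (a * x * a⁻¹ * x⁻¹)⁻¹ * a := by group
        have hi : (a * x * a⁻¹ * x⁻¹)⁻¹ = a * x * a⁻¹ * x⁻¹ :=
          inv_eq_of_mul_eq_one_right (IsScalar.sq S h)
        rw [e, hi, mul_assoc, IsScalar.comm S h a, ← mul_assoc, inv_mul_cancel, one_mul]
        exact h⟩ }
  have hscn : ∀ c, S.IsScalar c → ∀ g : G, g * c * g⁻¹ = c := fun c h g => by
    rw [← IsScalar.comm S h g]; group
  have hYn : Y.Normal := ⟨fun y hy g => ⟨hXn.conj_mem y hy.1 g, fun x hx => by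
    have hx' : g⁻¹ * x * g ∈ X := by simpa using hXn.conj_mem x hx g⁻¹
    have := hy.2 _ hx'
    rw [show g * y * g⁻¹ * x * (g * y * g⁻¹)⁻¹ * x⁻¹ =
      g * (y * (g⁻¹ * x * g) * y⁻¹ * (g⁻¹ * x * g)⁻¹) * g⁻¹ by group, hscn _ this]
    exact this⟩⟩
  have hYsq : ∀ y ∈ Y, S.IsScalar (y * y) := by
    intro y hy
    have hc : ∀ x ∈ X, y * y * x = x * (y * y) := fun x hx => by
      have h1 := hy.2 x hx
      have h2 := IsScalar.sq S h1
      have e : y * y * x * (y * y)⁻¹ * x⁻¹ =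
          y * (y * x * y⁻¹ * x⁻¹) * y⁻¹ * (y * x * y⁻¹ * x⁻¹) := by group
      rw [hscn _ h1, h2, mul_inv_eq_one, mul_inv_eq_iff_eq_mul] at e
      exact e
    let A : Subgroup G :=
      { carrier := {z | z ∈ X ∧ ∀ x ∈ X, z * x = x * z}
        one_mem' := ⟨one_mem _, fun x _ => by simp⟩
        mul_mem' := fun {u v} hu hv => ⟨mul_mem hu.1 hv.1, fun x hx => by
          rw [mul_assoc, hv.2 x hx, ← mul_assoc, hu.2 x hx, mul_assoc]⟩
        inv_mem' := fun {u} hu => ⟨inv_mem hu.1, fun x hx =>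
          (show Commute u x from hu.2 x hx).inv_left.eq⟩ }
    have hAn : A.Normal := ⟨fun z hz g => ⟨hXn.conj_mem z hz.1 g, fun x hx => by
      have := hz.2 _ (by simpa using hXn.conj_mem x hx g⁻¹ : g⁻¹ * x * g ∈ X)
      calc g * z * g⁻¹ * x = g * (z * (g⁻¹ * x * g)) * g⁻¹ := by group
        _ = g * ((g⁻¹ * x * g) * z) * g⁻¹ := by rw [this]
        _ = x * (g * z * g⁻¹) := by group⟩⟩
    haveI : IsMulCommutative A := ⟨⟨fun u v => Subtype.ext (u.2.2 v v.2.1)⟩⟩
    exact hab A hAn inferInstance (fun z hz => hXR hz.1) _ ⟨mul_mem hy.1 hy.1, hc⟩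
  have hcenX : ∀ x ∈ X, (∀ y ∈ X, x * y = y * x) → S.IsScalar x := by
    intro x hx h
    let A : Subgroup G :=
      { carrier := {z | z ∈ X ∧ ∀ x ∈ X, z * x = x * z}
        one_mem' := ⟨one_mem _, fun x _ => by simp⟩
        mul_mem' := fun {u v} hu hv => ⟨mul_mem hu.1 hv.1, fun x hx => by
          rw [mul_assoc, hv.2 x hx, ← mul_assoc, hu.2 x hx, mul_assoc]⟩
        inv_mem' := fun {u} hu => ⟨inv_mem hu.1, fun x hx =>
          (show Commute u x from hu.2 x hx).inv_left.eq⟩ }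
    have hAn : A.Normal := ⟨fun z hz g => ⟨hXn.conj_mem z hz.1 g, fun x hx => by
      have := hz.2 _ (by simpa using hXn.conj_mem x hx g⁻¹ : g⁻¹ * x * g ∈ X)
      calc g * z * g⁻¹ * x = g * (z * (g⁻¹ * x * g)) * g⁻¹ := by group
        _ = g * ((g⁻¹ * x * g) * z) * g⁻¹ := by rw [this]
        _ = x * (g * z * g⁻¹) := by group⟩⟩
    haveI : IsMulCommutative A := ⟨⟨fun u v => Subtype.ext (u.2.2 v v.2.1)⟩⟩
    exact hab A hAn inferInstance (fun z hz => hXR hz.1) _ ⟨hx, h⟩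
  -- the centraliser of `Y` in `X` acts as scalars
  have hCY : ∀ x ∈ X, (∀ y ∈ Y, x * y = y * x) → S.IsScalar x := by
    let Cy : Subgroup G :=
      { carrier := {z | z ∈ X ∧ ∀ y ∈ Y, z * y = y * z}
        one_mem' := ⟨one_mem _, fun x _ => by simp⟩
        mul_mem' := fun {u v} hu hv => ⟨mul_mem hu.1 hv.1, fun x hx => by
          rw [mul_assoc, hv.2 x hx, ← mul_assoc, hu.2 x hx, mul_assoc]⟩
        inv_mem' := fun {u} hu => ⟨inv_mem hu.1, fun x hx =>
          (show Commute u x from hu.2 x hx).inv_left.eq⟩ }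
    have hCyn : Cy.Normal := ⟨fun z hz g => ⟨hXn.conj_mem z hz.1 g, fun y hy => by
      have := hz.2 _ (by simpa using hYn.conj_mem y hy g⁻¹ : g⁻¹ * y * g ∈ Y)
      calc g * z * g⁻¹ * y = g * (z * (g⁻¹ * y * g)) * g⁻¹ := by group
        _ = g * ((g⁻¹ * y * g) * z) * g⁻¹ := by rw [this]
        _ = y * (g * z * g⁻¹) := by group⟩⟩
    intro x hx hxY
    by_contra hns
    -- a fixed point of `X` on `Cy` modulo scalars
    let Z : Subgroup X :=
      { carrier := {z | S.IsScalar (z : G)}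
        one_mem' := S.isScalar_one
        mul_mem' := fun {u v} hu hv => IsScalar.mul S hu hv
        inv_mem' := fun {u} hu => by
          show S.IsScalar ((u⁻¹ : X) : G)
          rw [Subgroup.coe_inv, inv_eq_of_mul_eq_one_right (IsScalar.sq S hu)]; exact hu }
    haveI hZn : Z.Normal := ⟨fun z hz g => by
      show S.IsScalar ((g : G) * z * (g : G)⁻¹)
      rw [hscn _ hz]; exact hz⟩
    haveI : Group.IsNilpotent (X ⧸ Z) := (hX2.to_quotient Z).isNilpotent
    let Cb := (Cy.subgroupOf X).map (QuotientGroup.mk' Z)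
    haveI : (Cy.subgroupOf X).Normal := hCyn.subgroupOf X
    haveI : Cb.Normal := Subgroup.Normal.map inferInstance _ (QuotientGroup.mk'_surjective _)
    have hCb : Cb ≠ ⊥ := fun e => by
      have hm : QuotientGroup.mk' Z ⟨x, hx⟩ ∈ Cb :=
        ⟨⟨x, hx⟩, (show x ∈ Cy from ⟨hx, hxY⟩), rfl⟩
      rw [e, Subgroup.mem_bot] at hm
      exact hns ((QuotientGroup.eq_one_iff (⟨x, hx⟩ : X)).1 hm)
    obtain ⟨⟨c, hc⟩, hc1⟩ := Subgroup.ne_bot_iff_exists_ne_one.1
      (Solvable.inf_center_ne_bot (N := Cb) hCb)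
    obtain ⟨⟨d, hd, rfl⟩, hccen⟩ := hc
    have hdY : (d : G) ∈ Y := ⟨d.2, fun y hy => by
      have := Subgroup.mem_center_iff.1 hccen (QuotientGroup.mk' Z ⟨y, hy⟩)
      rw [← map_mul, ← map_mul] at this
      have h2 : ((⟨y, hy⟩ : X) * d)⁻¹ * (d * ⟨y, hy⟩) ∈ Z := QuotientGroup.eq.1 this
      have h3 : S.IsScalar ((y * (d : G))⁻¹ * ((d : G) * y)) := h2
      have e : (d : G) * y * (d : G)⁻¹ * y⁻¹ = (y * d) * ((y * (d : G))⁻¹ * ((d : G) * y)) * (y * d)⁻¹ := by
        group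
      rw [e, hscn _ h3]; exact h3⟩
    have hds : S.IsScalar (d : G) := by
      refine hcenX d d.2 fun y hy => ?_
      by_contra hne
      have hA : ∃ A : Subgroup G, A.Normal ∧ IsMulCommutative A ∧ A ≤ S.R ∧ (d : G) ∈ A := by
        refine ⟨Cy ⊓ Y, inferInstance, ⟨⟨fun u v => Subtype.ext (u.2.1.2 v v.2.2)⟩⟩,
          fun z hz => hXR hz.2.1, ⟨hd, hdY⟩⟩
      obtain ⟨A, a1, a2, a3, a4⟩ := hA
      exact hne (IsScalar.comm S (hab A a1 a2 a3 _ a4) y)
    exact hc1 (Subtype.ext ((QuotientGroup.eq_one_iff d).2 hds))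
  have hXsq : ∀ x ∈ X, S.IsScalar (x * x) := by
    intro x hx
    refine hCY _ (mul_mem hx hx) fun y hy => ?_
    have h1 := hy.2 x hx
    have h2 := IsScalar.sq S h1
    have e : y * (x * x) * y⁻¹ * (x * x)⁻¹ =
        (y * x * y⁻¹ * x⁻¹) * (x * (y * x * y⁻¹ * x⁻¹) * x⁻¹) := by group
    rw [hscn _ h1, h2, mul_inv_eq_one, mul_inv_eq_iff_eq_mul] at e
    exact e.symm
  -- the dimension is four
  obtain ⟨xc, hxc, yc, hyc, hxy⟩ : ∃ x ∈ X, ∃ y ∈ X, x * y ≠ y * x := by
    by_contra hcon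
    push Not at hcon
    have hall : ∀ x ∈ X, S.IsScalar x := fun x hx => hcenX x hx (hcon x hx)
    have hq : S.q ∈ X := hC ⟨S.q_mem, Subgroup.mem_centralizer_iff.2 fun a ha =>
      IsScalar.comm S (hall a ha) _⟩
    obtain ⟨x, hx, hx0⟩ := (Submodule.ne_bot_iff _).1 S.L1_ne_bot
    rcases hall _ hq with h | h
    · exact S.q_ne (S.ext_of_apply fun v => by rw [h, S.map_one'])
    · exact hx0 (eq_zero_of_eq_neg ((S.mem_L1.1 hx).1.symm.trans (h x)))
  have hdim4 : finrank (ZMod 3) W ≤ 4 := by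
    by_contra hlt
    have hfix := fun x (hx : x ∈ X) => S.centralizes_of_five_le (by omega) hXn hXsq hcenX hx
    have hB : zpowers S.b ≤ centralizer ((⁅X, zpowers S.b⁆ : Subgroup G) : Set G) := by
      rw [zpowers_le, Subgroup.mem_centralizer_iff]
      suffices ⁅X, zpowers S.b⁆ ≤ centralizer ({S.b} : Set G) from fun a ha =>
        (Subgroup.mem_centralizer_singleton_iff.1 (this ha))
      refine Subgroup.commutator_le.2 fun x hx c hc => Subgroup.mem_centralizer_singleton_iff.2 ?_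
      have h1 : S.b * (x * S.b * x⁻¹ * S.b⁻¹) = x * S.b * x⁻¹ * S.b⁻¹ * S.b :=
        mul_inv_eq_iff_eq_mul.1 (hfix x hx)
      obtain ⟨i, rfl⟩ := hc
      simp only [commutatorElement_def]
      have hcm : Commute S.b (x * S.b * x⁻¹) := by
        have h2 : x * S.b * x⁻¹ = x * S.b * x⁻¹ * S.b⁻¹ * S.b := by group
        rw [h2]
        exact (show Commute S.b (x * S.b * x⁻¹ * S.b⁻¹) from h1).mul_right (Commute.refl _)
      show x * S.b ^ i * x⁻¹ * (S.b ^ i)⁻¹ * S.b = S.b * (x * S.b ^ i * x⁻¹ * (S.b ^ i)⁻¹)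
      rw [← conj_zpow]
      exact (((hcm.zpow_right i).mul_right ((Commute.refl S.b).zpow_right i).inv_right).eq).symm
    have hcop : (Nat.card (zpowers S.b)).Coprime (Nat.card X) := by
      rw [Nat.card_zpowers]
      exact ((S.cop.coprime_dvd_left (Subgroup.card_dvd_of_le hXR)).coprime_dvd_right
        (orderOf_dvd_of_pow_eq_one S.b3)).symm
    have hXs : Group.IsSolvable X := Group.isSolvable_of_isSolvable_injective
      (f := Subgroup.inclusion hXR) (Subgroup.inclusion_injective _)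
    have hbX := Coprime.le_centralizer_of_commutator_le_centralizer
      (normalizer_eq_top (H := X) ▸ le_top) hcop (Or.inr hXs) hB
    have hRX : S.R ≤ centralizer (X : Set G) := by
      conv_lhs => rw [← S.comm]
      haveI : (centralizer (X : Set G)).Normal := Subgroup.normal_centralizer
      exact (commutator_mono le_rfl hbX).trans (commutator_le_right _ _)
    exact hxy (Subgroup.mem_centralizer_iff.1 (hRX (hXR hyc)) xc hxc)
  have hneg : ∀ v, S.ρ (xc * yc * xc⁻¹ * yc⁻¹) v = -v := by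
    rcases S.commutator_isScalar hXsq hxc hyc with h | h
    · exact absurd (commutatorElement_eq_one_iff_mul_comm.1
        (show xc * yc * xc⁻¹ * yc⁻¹ = 1 from S.ext_of_apply fun v => by rw [h, S.map_one'])) hxy
    · exact h
  obtain ⟨m, hm⟩ := S.finrank_even_of_neg
    (hXR (mul_mem (mul_mem (mul_mem hxc hyc) (inv_mem hxc)) (inv_mem hyc))) hneg
  have := S.three_le_finrank
  have h4 : finrank (ZMod 3) W = 4 := by omega
  have hRX : S.R = X := le_antisymm
    (S.le_of_dim_le_four h4 X hXR hX2 (fun K hK hKR hK2 => S.mem_pCore_of_isPGroup hK hKR hK2) hC) hXR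
  exact S.card_of_extraspecial h4 (fun x hx => hXsq x (hRX ▸ hx))
    (fun x hx h => hcenX x (hRX ▸ hx) fun y hy => h y (hXR hy))

end Setting

end Cfsg.Agent.CubicBlock
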