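import Cfsg.Agent.Lib.CubicBlock.Odd
import Cfsg.Agent.Lib.Coprime.Commutator
import Cfsg.Prelude.Def_Transfer

/-!
# A noncentral elementary abelian normal 2-subgroup: the monomial case

* `monomial`: the dimension is `3` and `R` is a four-group, or the dimension is `4` and `R` is a
  2-group with squares and centre acting as scalars.
-/

set_option autoImplicit false
set_option linter.style.haveILetI false
set_option linter.unusedSectionVars false

namespace Cfsg.Agent.CubicBlock

open Subgroup Module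
open scoped commutatorElement

namespace Setting

variable {G W : Type*} [Group G] [Finite G] [AddCommGroup W] [Module (ZMod 3) W] [Finite W]
  (S : Setting G W)

/-- `g` acts as `1` or as `-1`. -/
def IsScalar (g : G) : Prop := (∀ v, S.ρ g v = v) ∨ ∀ v, S.ρ g v = -v

theorem IsScalar.comm {g : G} (h : S.IsScalar g) (x : G) : g * x = x * g := by
  refine S.ext_of_apply fun v => ?_
  rw [S.map_mul', S.map_mul']
  rcases h with h | h <;> simp [h]

theorem IsScalar.sq {g : G} (h : S.IsScalar g) : g * g = 1 := by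
  refine S.ext_of_apply fun v => ?_
  rw [S.map_mul', S.map_one']
  rcases h with h | h <;> simp [h]

theorem IsScalar.mul {g g' : G} (h : S.IsScalar g) (h' : S.IsScalar g') : S.IsScalar (g * g') := by
  rcases h with h | h <;> rcases h' with h' | h'
  · exact Or.inl fun v => by rw [S.map_mul', h', h]
  · exact Or.inr fun v => by rw [S.map_mul', h', h]
  · exact Or.inr fun v => by rw [S.map_mul', h', h]
  · exact Or.inl fun v => by rw [S.map_mul', h', h, neg_neg]

/-- Two sign scalars agree in `ZMod 3`. -/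
theorem sq_one {c : ZMod 3} (h : c ≠ 0) : c * c = 1 := by
  have key : ∀ d : ZMod 3, d ≠ 0 → d * d = 1 := by decide
  exact key c h

section
variable (A : Subgroup G)

/-- The eigenspace of `A` for `χ`. -/
def eigA (χ : A → ZMod 3) : Submodule (ZMod 3) W :=
  ⨅ a : A, LinearMap.ker (S.ρ (a : G) - χ a • 1)

theorem mem_eigA {χ : A → ZMod 3} {v : W} :
    v ∈ S.eigA A χ ↔ ∀ a : A, S.ρ (a : G) v = χ a • v := by
  simp [eigA, sub_eq_zero]

theorem eigA_unique {χ η : A → ZMod 3} {v : W} (hv : v ≠ 0) (h1 : v ∈ S.eigA A χ)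
    (h2 : v ∈ S.eigA A η) : χ = η := by
  funext a
  have : (χ a - η a) • v = 0 := by
    rw [sub_smul, ← (S.mem_eigA A).1 h1 a, ← (S.mem_eigA A).1 h2 a, sub_self]
  exact sub_eq_zero.1 ((smul_eq_zero.1 this).resolve_right hv)

theorem eigA_indep [DecidableEq (A → ZMod 3)] (s : Finset (A → ZMod 3)) :
    ∀ w : (A → ZMod 3) → W, (∀ χ ∈ s, w χ ∈ S.eigA A χ) → ∑ χ ∈ s, w χ = 0 → ∀ χ ∈ s, w χ = 0 := by
  induction s using Finset.induction_on with
  | empty => simp
  | insert χ0 s hχ0 ih =>
    intro w hw hsum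
    rw [Finset.sum_insert hχ0] at hsum
    have hs : ∀ χ ∈ s, w χ = 0 := by
      intro χ hχ
      have hne : χ ≠ χ0 := fun e => hχ0 (e ▸ hχ)
      obtain ⟨a, ha⟩ := Function.ne_iff.1 hne
      have h0 := congrArg (fun v => S.ρ (a : G) v - χ0 a • v) hsum
      simp only [map_add, map_sum, map_zero, smul_zero, sub_zero, smul_add, Finset.smul_sum] at h0
      rw [(S.mem_eigA A).1 (hw χ0 (Finset.mem_insert_self _ _)) a, add_sub_add_left_eq_sub,
        ← Finset.sum_sub_distrib] at h0
      have h1 := ih (fun η => S.ρ (a : G) (w η) - χ0 a • w η) (fun η hη => ?_) h0 χ hχ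
      · rw [(S.mem_eigA A).1 (hw χ (Finset.mem_insert_of_mem hχ)) a, ← sub_smul] at h1
        exact (smul_eq_zero.1 h1).resolve_left (sub_ne_zero.2 ha)
      · rw [(S.mem_eigA A).1 (hw η (Finset.mem_insert_of_mem hη)) a, ← sub_smul]
        exact Submodule.smul_mem _ _ (hw η (Finset.mem_insert_of_mem hη))
    intro χ hχ
    rcases Finset.mem_insert.1 hχ with rfl | hχ
    · rwa [Finset.sum_eq_zero hs, add_zero] at hsum
    · exact hs χ hχ

theorem exists_common [IsMulCommutative A] (hA : ∀ a ∈ A, a * a = 1) (s : Finset A) :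
    ∃ v : W, v ≠ 0 ∧ ∀ a ∈ s, S.ρ (a : G) v = v ∨ S.ρ (a : G) v = -v := by
  classical
  induction s using Finset.induction_on with
  | empty =>
    obtain ⟨x, -, hx⟩ := (Submodule.ne_bot_iff _).1 S.L1_ne_bot
    exact ⟨x, hx, by simp⟩
  | insert a s has ih =>
    obtain ⟨v, hv, hs⟩ := ih
    have haa : S.ρ (a : G) (S.ρ (a : G) v) = v := by rw [← S.map_mul', hA _ a.2, S.map_one']
    have hcomm : ∀ c : A, ∀ u : W, S.ρ (c : G) (S.ρ (a : G) u) = S.ρ (a : G) (S.ρ (c : G) u) :=
      fun c u => by
      rw [← S.map_mul', ← S.map_mul']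
      exact congrArg (fun g => S.ρ g u) (congrArg Subtype.val (mul_comm' c a))
    by_cases h : S.ρ (a : G) v = -v
    · exact ⟨v, hv, fun c hc => (Finset.mem_insert.1 hc).elim (fun e => e ▸ Or.inr h) (hs c)⟩
    refine ⟨v + S.ρ (a : G) v, fun e => h (eq_neg_of_add_eq_zero_right e), fun c hc => ?_⟩
    rcases Finset.mem_insert.1 hc with rfl | hc
    · left; rw [map_add, haa, add_comm]
    · rcases hs c hc with e | e
      · left; rw [map_add, hcomm, e]
      · right; rw [map_add, hcomm, e, map_neg, neg_add]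

variable [A.Normal]

/-- The action of `G` on the functions `A → ZMod 3`. -/
def charMap : G →* Equiv.Perm (A → ZMod 3) where
  toFun g :=
    { toFun := fun χ a => χ ⟨g⁻¹ * a * g, by
        simpa using (inferInstance : A.Normal).conj_mem a a.2 g⁻¹⟩
      invFun := fun χ a => χ ⟨g * a * g⁻¹, (inferInstance : A.Normal).conj_mem a a.2 g⟩
      left_inv := fun χ => funext fun a => congrArg χ (Subtype.ext (by simp [mul_assoc]))
      right_inv := fun χ => funext fun a => congrArg χ (Subtype.ext (by simp [mul_assoc])) }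
  map_one' := by ext χ a; simp
  map_mul' g h := by ext χ a; simp [mul_assoc]

theorem charMap_apply (g : G) (χ : A → ZMod 3) (a : A) :
    charMap A g χ a = χ ⟨g⁻¹ * a * g, by
      simpa using (inferInstance : A.Normal).conj_mem a a.2 g⁻¹⟩ := rfl

theorem map_eigA (g : G) {χ : A → ZMod 3} {v : W} (hv : v ∈ S.eigA A χ) :
    S.ρ g v ∈ S.eigA A (charMap A g χ) := by
  refine (S.mem_eigA A).2 fun a => ?_
  have h := congrArg (S.ρ g) ((S.mem_eigA A).1 hv ⟨g⁻¹ * a * g, by
    simpa using (inferInstance : A.Normal).conj_mem a a.2 g⁻¹⟩)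
  rw [map_smul, ← S.map_mul'] at h
  rw [charMap_apply, ← h, ← S.map_mul']
  congr 2
  group

end

theorem det_eq_one {r : G} (hr : r ∈ S.R) : LinearMap.det (S.ρ r) = 1 := by
  let d : G →* (ZMod 3)ˣ := (LinearMap.det.comp S.ρ).toHomUnits
  have h : d r = 1 := by
    rw [← S.comm] at hr
    have hle : ⁅S.R, zpowers S.b⁆ ≤ d.ker := commutator_le.2 fun x _ y _ => by
      rw [MonoidHom.mem_ker, map_commutatorElement, commutatorElement_eq_one_iff_mul_comm]
      exact mul_comm _ _
    exact hle hr
  exact congrArg Units.val h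

theorem eq_one_of_commute_b [IsMulCommutative S.R] {z : G} (hz : z ∈ S.R)
    (h : Commute S.b z) : z = 1 := by
  have hcop : (Nat.card (zpowers S.b)).Coprime (Nat.card S.R) := by
    rw [Nat.card_zpowers]
    exact (S.cop.coprime_dvd_right (orderOf_dvd_of_pow_eq_one S.b3)).symm
  haveI := S.Rn
  have h0 := Coprime.inf_centralizer_inf_commutator_eq_bot (A := zpowers S.b) (V := S.R)
    (normalizer_eq_top (H := S.R) ▸ le_top) hcop
  rw [S.comm] at h0
  refine mem_bot.1 (h0 ▸ ⟨⟨hz, mem_centralizer_iff.2 ?_⟩, hz⟩)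
  rintro _ ⟨i, rfl⟩
  exact (h.zpow_left i).eq

/-- The monomial case. -/
theorem monomial (A : Subgroup G) [hAn : A.Normal] [IsMulCommutative A] (hA2 : ∀ a ∈ A, a * a = 1)
    (hAR : A ≤ S.R) (hns : ∃ a ∈ A, ¬ S.IsScalar a) :
    (Cfsg.IsElementaryAbelian 2 S.R ∧ Nat.card S.R = 4) ∨
      (finrank (ZMod 3) W = 4 ∧ (∀ x ∈ S.R, S.IsScalar (x * x)) ∧
        ∀ x ∈ S.R, (∀ y ∈ S.R, x * y = y * x) → S.IsScalar x) := by
  classical
  letI : Fintype A := Fintype.ofFinite _
  set f := charMap A with hf
  obtain ⟨v0, hv0, hs⟩ := S.exists_common A hA2 Finset.univ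
  set χ0 : A → ZMod 3 := fun a => if S.ρ (a : G) v0 = v0 then 1 else -1 with hχ0
  have hv0m : v0 ∈ S.eigA A χ0 := (S.mem_eigA A).2 fun a => by
    rcases hs a (Finset.mem_univ _) with e | e
    · simp [hχ0, e]
    · have : ¬ S.ρ (a : G) v0 = v0 := fun e' => hv0 (eq_zero_of_eq_neg (e'.symm.trans e))
      simp [hχ0, e, this, neg_ne_self]
  set Ω : Set (A → ZMod 3) := {χ | ∃ g, f g χ0 = χ} with hΩ
  have hne : ∀ χ ∈ Ω, ∃ v, v ≠ 0 ∧ v ∈ S.eigA A χ := by
    rintro _ ⟨g, rfl⟩
    exact ⟨S.ρ g v0, fun h => hv0 (S.apply_inj g (by rw [h, map_zero])), S.map_eigA A g hv0m⟩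
  have hmap : ∀ g, ∀ χ ∈ Ω, f g χ ∈ Ω := by
    rintro g _ ⟨x, rfl⟩; exact ⟨g * x, by rw [map_mul]; rfl⟩
  let U : Submodule (ZMod 3) W := ⨆ χ : Ω, S.eigA A χ.1
  have hU : U = ⊤ := by
    refine S.eq_top_of_invariant U (fun g v hv => ?_) ?_
    · induction hv using Submodule.iSup_induction' with
      | mem χ v hv => exact Submodule.mem_iSup_of_mem ⟨_, hmap g χ.1 χ.2⟩ (S.map_eigA A g hv)
      | zero => rw [map_zero]; exact U.zero_mem
      | add x y _ _ hx hy => rw [map_add]; exact U.add_mem hx hy
    · exact (Submodule.ne_bot_iff _).2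
        ⟨v0, Submodule.mem_iSup_of_mem (⟨χ0, 1, by simp⟩ : Ω) hv0m, hv0⟩
  letI : Fintype Ω := Fintype.ofFinite _
  -- `b` moves a member of `Ω`
  have hbmove : ∃ χ ∈ Ω, f S.b χ ≠ χ := by
    by_contra hcon
    push Not at hcon
    let K : Subgroup G :=
      { carrier := {g | ∀ χ ∈ Ω, f g χ = χ}
        one_mem' := fun χ _ => by simp
        mul_mem' := fun {x y} hx hy χ hχ => by rw [map_mul, Equiv.Perm.mul_apply, hy χ hχ, hx χ hχ]
        inv_mem' := fun {x} hx χ hχ => by
          rw [map_inv, Equiv.Perm.inv_eq_iff_eq]; exact (hx χ hχ).symm }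
    have hKn : K.Normal := ⟨fun x hx g χ hχ => by
      rw [map_mul, map_mul, Equiv.Perm.mul_apply, Equiv.Perm.mul_apply, hx _ (hmap _ _ hχ),
        ← Equiv.Perm.mul_apply, ← map_mul, mul_inv_cancel, map_one, Equiv.Perm.one_apply]⟩
    have hRK : S.R ≤ K := fun r hr => by
      rw [← S.comm] at hr
      exact (commutator_le_right S.R K) (commutator_mono le_rfl (zpowers_le.2
        (show S.b ∈ K from hcon)) hr)
    have hK : ∀ g, f g χ0 = χ0 := by
      intro g
      have : (⊤ : Subgroup G) ≤ K := by
        rw [← S.gen]; exact sup_le hRK (zpowers_le.2 hcon)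
      exact this (mem_top g) χ0 ⟨1, by simp⟩
    obtain ⟨a, ha, hna⟩ := hns
    have hall : ∀ v, v ∈ S.eigA A χ0 := fun v => by
      have : v ∈ U := by rw [hU]; exact Submodule.mem_top
      refine (iSup_le (fun χ : Ω => ?_) : U ≤ _) this
      obtain ⟨g, hg⟩ := χ.2
      rw [← hg, hK]
    have hv : ∀ v, S.ρ a v = χ0 ⟨a, ha⟩ • v := fun v => (S.mem_eigA A).1 (hall v) ⟨a, ha⟩
    apply hna
    simp only [hχ0] at hv
    by_cases e : S.ρ a v0 = v0
    · exact Or.inl fun v => by simpa [e] using hv v
    · exact Or.inr fun v => by simpa [e] using hv v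
  obtain ⟨c0, hc0Ω, hc0⟩ := hbmove
  have fb3 : ∀ χ, f S.b (f S.b (f S.b χ)) = χ := fun χ => by
    rw [← Equiv.Perm.mul_apply, ← Equiv.Perm.mul_apply, ← map_mul, ← map_mul,
      show S.b * S.b * S.b = S.b ^ 3 by rw [pow_succ, pow_two], S.b3, map_one, Equiv.Perm.one_apply]
  set c1 := f S.b c0 with hc1
  set c2 := f S.b c1 with hc2
  have h01 : c0 ≠ c1 := Ne.symm hc0
  have h12 : c1 ≠ c2 := fun e => h01 ((f S.b).injective e)
  have h02 : c0 ≠ c2 := fun e => h01 (by
    calc c0 = f S.b c2 := (fb3 c0).symm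
      _ = f S.b c0 := by rw [← e]
      _ = c1 := rfl)
  have inj1 : finrank (ZMod 3) (S.eigA A c0) ≤ 1 := by
    have hc12 : finrank (ZMod 3) (S.eigA A c0) ≤ finrank (ZMod 3) (S.eigA A c1) :=
      LinearMap.finrank_le_finrank_of_injective
        (f := (S.ρ S.b).restrict fun v hv => S.map_eigA A S.b hv) fun x y e =>
          Subtype.ext (S.apply_inj S.b (congrArg Subtype.val e))
    let Φ := (S.D.domRestrict (S.eigA A c0)).coprod (S.D.domRestrict (S.eigA A c1))
    have hΦ : Function.Injective Φ := by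
      rw [← LinearMap.ker_eq_bot, Submodule.eq_bot_iff]
      rintro ⟨⟨x, hx⟩, ⟨y, hy⟩⟩ h
      simp only [Φ, LinearMap.mem_ker, LinearMap.coprod_apply, LinearMap.domRestrict_apply,
        D_apply] at h
      let w : (A → ZMod 3) → W := fun χ => if χ = c0 then -x else if χ = c1 then S.ρ S.b x - y
        else S.ρ S.b y
      have hz := S.eigA_indep A {c0, c1, c2} w (fun χ hχ => ?_) ?_
      · have e1 : x = 0 := by simpa [w] using hz c0 (by simp)
        have e2 := hz c1 (by simp)
        have e3 : y = 0 := by simpa [w, h01.symm, e1] using e2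
        simp [e1, e3]
      · simp only [Finset.mem_insert, Finset.mem_singleton] at hχ
        rcases hχ with rfl | rfl | rfl
        · simp only [w, if_true]; exact Submodule.neg_mem _ hx
        · simp only [w, if_neg h01.symm, if_true]
          exact Submodule.sub_mem _ (S.map_eigA A _ hx) hy
        · simp only [w, if_neg h02.symm, if_neg h12.symm]
          exact S.map_eigA A _ hy
      · rw [Finset.sum_insert (by simp [h01, h02]), Finset.sum_insert (by simp [h12]),
          Finset.sum_singleton]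
        simp only [w, if_true, if_neg h01.symm, if_neg h02.symm, if_neg h12.symm]
        linear_combination (norm := module) h
    have h := LinearMap.finrank_range_of_inj hΦ
    rw [Module.finrank_prod] at h
    have h2 : finrank (ZMod 3) (LinearMap.range Φ) ≤ 2 := by
      refine le_trans (Submodule.finrank_mono ?_) S.rank
      rintro _ ⟨⟨x, y⟩, rfl⟩
      simp only [Φ, LinearMap.coprod_apply, LinearMap.domRestrict_apply]
      exact Submodule.add_mem _ ⟨_, rfl⟩ ⟨_, rfl⟩
    omega
  have hdim : ∀ χ ∈ Ω, finrank (ZMod 3) (S.eigA A χ) = 1 := by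
    intro χ hχ
    obtain ⟨v, hv, hvm⟩ := hne χ hχ
    refine le_antisymm ?_ (Submodule.one_le_finrank_iff.2 fun h => hv (by rw [h] at hvm; simpa using hvm))
    obtain ⟨g, hg⟩ := hχ
    obtain ⟨x, hx⟩ := hc0Ω
    have hgx : f (x * g⁻¹) χ = c0 := by
      rw [← hg, ← Equiv.Perm.mul_apply, ← map_mul, inv_mul_cancel_right, hx]
    refine le_trans ?_ inj1
    exact LinearMap.finrank_le_finrank_of_injective
      (f := (S.ρ (x * g⁻¹)).restrict fun v hv => hgx ▸ S.map_eigA A (x * g⁻¹) hv) fun x y e =>
        Subtype.ext (S.apply_inj _ (congrArg Subtype.val e))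
  have honly : ∀ d ∈ Ω, f S.b d ≠ d → d = c0 ∨ d = c1 ∨ d = c2 := by
    intro d hd hdm
    by_contra hcon
    push Not at hcon
    obtain ⟨n0, n1, n2⟩ := hcon
    have k1 : f S.b d ≠ c0 := fun e => n2 ((f S.b).injective (by rw [e]; exact (fb3 c0).symm))
    have k2 : f S.b d ≠ c1 := fun e => n0 ((f S.b).injective e)
    have k3 : f S.b (f S.b d) ≠ c0 := fun e => n1 ((f S.b).injective ((f S.b).injective
      (by rw [e]; exact (fb3 c0).symm)))
    have k4 : f S.b d ≠ c2 := fun e => n1 ((f S.b).injective e)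
    have hd1 : d ≠ f S.b d := Ne.symm hdm
    let Φ := ((S.D.domRestrict (S.eigA A c0)).coprod (S.D.domRestrict (S.eigA A c1))).coprod
      (S.D.domRestrict (S.eigA A d))
    have hΦ : Function.Injective Φ := by
      rw [← LinearMap.ker_eq_bot, Submodule.eq_bot_iff]
      rintro ⟨⟨⟨x, hx⟩, ⟨y, hy⟩⟩, ⟨z, hz⟩⟩ h
      simp only [Φ, LinearMap.mem_ker, LinearMap.coprod_apply, LinearMap.domRestrict_apply,
        D_apply] at h
      let w : (A → ZMod 3) → W := fun χ => if χ = c0 then -x else if χ = c1 then S.ρ S.b x - y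
        else if χ = c2 then S.ρ S.b y else if χ = d then -z else S.ρ S.b z
      have hw := S.eigA_indep A {c0, c1, c2, d, f S.b d} w (fun χ hχ => ?_) ?_
      · have e1 : x = 0 := by simpa [w] using hw c0 (by simp)
        have e3 : y = 0 := by simpa [w, h01.symm, e1] using hw c1 (by simp)
        have e2 : z = 0 := by simpa [w, n0, n1, n2] using hw d (by simp)
        simp [e1, e2, e3]
      · simp only [Finset.mem_insert, Finset.mem_singleton] at hχ
        rcases hχ with rfl | rfl | rfl | rfl | rfl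
        · simp only [w, if_true]; exact Submodule.neg_mem _ hx
        · simp only [w, if_neg h01.symm, if_true]
          exact Submodule.sub_mem _ (S.map_eigA A _ hx) hy
        · simp only [w, if_neg h02.symm, if_neg h12.symm, if_true]
          exact S.map_eigA A _ hy
        · simp only [w, if_neg n0, if_neg n1, if_neg n2, if_true]; exact Submodule.neg_mem _ hz
        · simp only [w, if_neg k1, if_neg k2, if_neg k4, if_neg hd1.symm]
          exact S.map_eigA A _ hz
      · rw [Finset.sum_insert (by simp [h01, h02, Ne.symm n0, Ne.symm k1]),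
          Finset.sum_insert (by simp [h12, Ne.symm n1, Ne.symm k2]),
          Finset.sum_insert (by simp [Ne.symm n2, Ne.symm k4]),
          Finset.sum_insert (by simp [hd1]), Finset.sum_singleton]
        simp only [w, if_true, if_neg h01.symm, if_neg h02.symm, if_neg h12.symm, if_neg n0,
          if_neg n1, if_neg n2, if_neg k1, if_neg k2, if_neg k4, if_neg hd1.symm]
        linear_combination (norm := module) h
    have h := LinearMap.finrank_range_of_inj hΦ
    rw [Module.finrank_prod, Module.finrank_prod] at h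
    have h2 : finrank (ZMod 3) (LinearMap.range Φ) ≤ 2 := by
      refine le_trans (Submodule.finrank_mono ?_) S.rank
      rintro _ ⟨⟨⟨x, y⟩, z⟩, rfl⟩
      simp only [Φ, LinearMap.coprod_apply, LinearMap.domRestrict_apply]
      exact Submodule.add_mem _ (Submodule.add_mem _ ⟨_, rfl⟩ ⟨_, rfl⟩) ⟨_, rfl⟩
    rw [hdim c0 hc0Ω, hdim c1 (hmap _ _ hc0Ω), hdim d hd] at h
    omega
  -- the basis of eigenvectors
  choose! e he0 he using hne
  have hline : ∀ χ ∈ Ω, ∀ v ∈ S.eigA A χ, ∃ c : ZMod 3, v = c • e χ := by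
    intro χ hχ v hv
    obtain ⟨c, hc⟩ := (finrank_eq_one_iff_of_nonzero' (⟨e χ, he χ hχ⟩ : S.eigA A χ)
      (by simpa using he0 χ hχ)).1 (hdim χ hχ) ⟨v, hv⟩
    exact ⟨c, (congrArg Subtype.val hc).symm⟩
  have hli : LinearIndependent (ZMod 3) fun χ : Ω => e χ.1 := by
    rw [Fintype.linearIndependent_iff]
    intro g hg i
    let w : (A → ZMod 3) → W := fun χ => if h : χ ∈ Ω then g ⟨χ, h⟩ • e χ else 0
    have hw := S.eigA_indep A (Finset.univ.map ⟨Subtype.val, Subtype.val_injective⟩ : Finset _) w
      (fun χ hχ => ?_) ?_ i.1 (Finset.mem_map.2 ⟨i, Finset.mem_univ _, rfl⟩)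
    · simp only [w, dif_pos i.2] at hw
      exact (smul_eq_zero.1 hw).resolve_right (he0 i.1 i.2)
    · simp only [Finset.mem_map, Finset.mem_univ, true_and, Function.Embedding.coeFn_mk] at hχ
      obtain ⟨j, rfl⟩ := hχ
      simp only [w, dif_pos j.2]
      exact Submodule.smul_mem _ _ (he j.1 j.2)
    · rw [Finset.sum_map]
      refine Eq.trans (Finset.sum_congr rfl fun j _ => ?_) hg
      simp only [w, Function.Embedding.coeFn_mk, dif_pos j.2]
  have hsp : ⊤ ≤ Submodule.span (ZMod 3) (Set.range fun χ : Ω => e χ.1) := by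
    rw [← hU]
    refine iSup_le fun χ v hv => ?_
    obtain ⟨c, rfl⟩ := hline χ.1 χ.2 v hv
    exact Submodule.smul_mem _ _ (Submodule.subset_span ⟨χ, rfl⟩)
  let B : Basis Ω (ZMod 3) W := Basis.mk hli hsp
  have hB : ∀ χ : Ω, B χ = e χ.1 := fun χ => Basis.mk_apply hli hsp χ
  have hfin : finrank (ZMod 3) W = Fintype.card Ω := Module.finrank_eq_card_basis B
  -- the permutation group
  let π : G →* Equiv.Perm Ω :=
    { toFun := fun g =>
        { toFun := fun χ => ⟨f g χ.1, hmap g χ.1 χ.2⟩
          invFun := fun χ => ⟨f g⁻¹ χ.1, hmap g⁻¹ χ.1 χ.2⟩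
          left_inv := fun χ => Subtype.ext (by
            show f g⁻¹ (f g χ.1) = χ.1
            rw [← Equiv.Perm.mul_apply, ← map_mul, inv_mul_cancel, map_one, Equiv.Perm.one_apply])
          right_inv := fun χ => Subtype.ext (by
            show f g (f g⁻¹ χ.1) = χ.1
            rw [← Equiv.Perm.mul_apply, ← map_mul, mul_inv_cancel, map_one, Equiv.Perm.one_apply]) }
      map_one' := by ext χ : 2; simp
      map_mul' := fun g h => by ext χ : 2; simp }
  have π_apply : ∀ g χ, (π g χ).1 = f g χ.1 := fun _ _ => rfl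
  have hthree : (π S.b).IsThreeCycle := by
    rw [← card_support_eq_three_iff]
    have : (π S.b).support = {⟨c0, hc0Ω⟩, ⟨c1, hmap _ _ hc0Ω⟩,
        ⟨c2, hmap _ _ (hmap _ _ hc0Ω)⟩} := by
      ext ⟨χ, hχ⟩
      simp only [Equiv.Perm.mem_support, Finset.mem_insert, Finset.mem_singleton, ne_eq,
        Subtype.ext_iff, π_apply]
      constructor
      · exact honly χ hχ
      · rintro (rfl | rfl | rfl)
        · exact hc0
        · exact fun e => h12 e.symm
        · exact fun e => h02 (by rw [← e]; exact (fb3 c0).symm)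
    rw [this, Finset.card_insert_of_notMem (by simp [h01, h02]),
      Finset.card_insert_of_notMem (by simp [h12]), Finset.card_singleton]
  set P := π.range with hP
  haveI htr : MulAction.IsPretransitive P Ω := ⟨fun x y => by
    obtain ⟨g, hg⟩ := x.2
    obtain ⟨g', hg'⟩ := y.2
    refine ⟨⟨π (g' * g⁻¹), _, rfl⟩, Subtype.ext ?_⟩
    show f (g' * g⁻¹) x.1 = y.1
    rw [← hg, ← Equiv.Perm.mul_apply, ← map_mul, inv_mul_cancel_right, hg']⟩
  have hΩ2 : 3 ≤ Fintype.card Ω :=
    hthree.card_support.symm.le.trans (Finset.card_le_univ _)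
  -- generated by conjugates of `b`
  let T : Set G := {g | ∃ x, g = x * S.b * x⁻¹}
  have hT : Subgroup.closure T = ⊤ := by
    haveI : (Subgroup.closure T).Normal := by
      have : T = Group.conjugatesOfSet {S.b} := by
        ext g
        simp [T, Group.mem_conjugatesOfSet_iff, isConj_iff, eq_comm]
      rw [this]; exact (inferInstance : (Subgroup.normalClosure {S.b}).Normal)
    have hb : S.b ∈ Subgroup.closure T := Subgroup.subset_closure ⟨1, by simp⟩
    rw [← top_le_iff, ← S.gen]
    refine sup_le ?_ (zpowers_le.2 hb)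
    rw [← S.comm]
    exact (commutator_mono le_rfl (zpowers_le.2 hb)).trans (commutator_le_right _ _)
  haveI hprim : MulAction.IsPreprimitive P Ω := by
    refine MulAction.IsPreprimitive.mk fun {Bk} hBk => ?_
    by_contra hcon
    rw [MulAction.IsTrivialBlock, not_or, Set.not_subsingleton_iff] at hcon
    obtain ⟨⟨x, hx, y, hy, hxy⟩, hne'⟩ := hcon
    have hfixB : ∀ g, ∀ z ∈ Bk, π g z ∈ Bk := by
      intro g
      induction (hT.symm ▸ mem_top g : g ∈ Subgroup.closure T) using Subgroup.closure_induction with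
      | mem g hg =>
        obtain ⟨k, rfl⟩ := hg
        intro z hz
        rcases hBk.smul_eq_or_disjoint (⟨π (k * S.b * k⁻¹), _, rfl⟩ : P) with e | e
        · rw [← e]; exact Set.smul_mem_smul_set hz
        · exfalso
          set σ := π (k * S.b * k⁻¹) with hσ
          have hσ3 : σ.support.card = 3 := by
            rw [hσ, map_mul, map_mul, map_inv, Equiv.Perm.card_support_conj, hthree.card_support]
          have hd : ∀ w ∈ Bk, σ w ∉ Bk := fun w hw hw' =>
            Set.disjoint_left.1 e (Set.smul_mem_smul_set hw) hw'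
          have hsub : ({x, y, σ x, σ y} : Finset Ω) ⊆ σ.support := by
            intro w hw
            simp only [Finset.mem_insert, Finset.mem_singleton] at hw
            rw [Equiv.Perm.mem_support]
            rcases hw with rfl | rfl | rfl | rfl
            · exact fun e => hd _ hx (e.symm ▸ hx)
            · exact fun e => hd _ hy (e.symm ▸ hy)
            · exact fun e => hd _ hx ((σ.injective e).symm ▸ hx)
            · exact fun e => hd _ hy ((σ.injective e).symm ▸ hy)
          have := Finset.card_le_card hsub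
          rw [hσ3, Finset.card_insert_of_notMem, Finset.card_insert_of_notMem,
            Finset.card_insert_of_notMem, Finset.card_singleton] at this
          · omega
          · simpa using hxy
          · simp only [Finset.mem_insert, Finset.mem_singleton, not_or]
            exact ⟨fun e => hd x hx (e ▸ hy), fun e => hd y hy (e ▸ hy)⟩
          · simp only [Finset.mem_insert, Finset.mem_singleton, not_or]
            exact ⟨hxy, fun e => hd x hx (e ▸ hx), fun e => hd y hy (e ▸ hx)⟩
      | one => intro z hz; simpa using hz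
      | mul a c _ _ ha hc => intro z hz; rw [map_mul]; exact ha _ (hc z hz)
      | inv a _ ha =>
        intro z hz
        have : Set.MapsTo (π a) Bk Bk := ha
        obtain ⟨w, hw, hwz⟩ : z ∈ π a '' Bk := by
          rw [Set.eq_of_subset_of_ncard_le (Set.mapsTo_iff_image_subset.1 this)
            (by rw [Set.ncard_image_of_injective _ (π a).injective]) (Set.toFinite _)]
          exact hz
        rw [map_inv, show (π a)⁻¹ z = w from Equiv.Perm.inv_eq_iff_eq.2 hwz.symm]
        exact hw
    refine hne' (Set.eq_univ_of_forall fun z => ?_)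
    obtain ⟨⟨_, g, rfl⟩, hg⟩ := MulAction.exists_smul_eq P x z
    rw [← hg]
    exact hfixB g x hx
  have hle4 : Fintype.card Ω ≤ 4 := by
    by_contra h5
    have hmem : π S.b ∈ P := ⟨_, rfl⟩
    have halt : alternatingGroup Ω ≤ P :=
      Equiv.Perm.alternatingGroup_le_of_isPreprimitive_of_isThreeCycle_mem hprim hthree hmem
    haveI := S.Rn
    haveI := S.sol
    have hGs : Group.IsSolvable G := by
      have h1 : Group.IsSolvable (G ⧸ S.R) := by
        haveI : IsMulCommutative (G ⧸ S.R) := by
          have : IsCyclic (G ⧸ S.R) := by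
            refine ⟨⟨(S.b : G ⧸ S.R), fun z => ?_⟩⟩
            induction z using QuotientGroup.induction_on with | _ z => ?_
            obtain ⟨r, hr, c, ⟨i, rfl⟩, rfl⟩ := Subgroup.mem_sup_of_normal_left.1
              (S.gen.symm ▸ mem_top z : z ∈ S.R ⊔ zpowers S.b)
            exact ⟨i, by rw [QuotientGroup.mk_mul, (QuotientGroup.eq_one_iff r).2 hr, one_mul]; rfl⟩
          exact IsCyclic.isMulCommutative
        exact Group.isSolvable_of_comm fun a c => mul_comm' a c
      exact Group.isSolvable_of_ker_le_range (S.R.subtype) (QuotientGroup.mk' S.R)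
        (by rw [QuotientGroup.ker_mk', range_subtype])
    have hPs : Group.IsSolvable P := Group.isSolvable_of_surjective π.rangeRestrict_surjective
    have hAs : Group.IsSolvable (alternatingGroup Ω) :=
      Group.isSolvable_of_isSolvable_injective (f := Subgroup.inclusion halt)
        (Subgroup.inclusion_injective halt)
    refine Equiv.Perm.not_isSolvable Ω ?_ (Group.isSolvable_of_ker_le_range
      (alternatingGroup Ω).subtype Equiv.Perm.sign (by rw [range_subtype]; exact le_rfl))
    rw [Cardinal.mk_fintype]; exact_mod_cast (by omega : 5 ≤ Fintype.card Ω)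
  -- signs
  have hsig : ∀ g, ∀ χ : Ω, ∃ c : ZMod 3, c * c = 1 ∧ S.ρ g (e χ.1) = c • e (π g χ).1 := by
    intro g χ
    obtain ⟨c, hc⟩ := hline _ (π g χ).2 _ (S.map_eigA A g (he χ.1 χ.2))
    refine ⟨c, sq_one (fun h0 => he0 χ.1 χ.2 (S.apply_inj g ?_)), hc⟩
    rw [hc, h0, zero_smul, map_zero]
  choose sg hsg1 hsg using hsig
  have hevenb : Equiv.Perm.sign (π S.b) = 1 := hthree.sign
  have heven : ∀ g, Equiv.Perm.sign (π g) = 1 := by
    intro g
    induction (hT.symm ▸ mem_top g : g ∈ Subgroup.closure T) using Subgroup.closure_induction with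
    | mem g hg =>
      obtain ⟨k, rfl⟩ := hg
      rw [map_mul, map_mul, map_mul, map_mul, hevenb, mul_one, map_inv, map_inv, mul_inv_cancel]
    | one => simp
    | mul a c _ _ ha hc => rw [map_mul, map_mul, ha, hc, one_mul]
    | inv a _ ha => rw [map_inv, map_inv, ha, inv_one]
  have hord4 : ∀ r ∈ S.R, ∀ N : ℕ, N ∣ 12 → π r ^ N = 1 → π r ^ 4 = 1 := by
    intro r hr N hN hpow
    have h3 : (orderOf (π r)).Coprime 3 := by
      refine Nat.Coprime.coprime_dvd_left ?_ S.cop
      exact (orderOf_map_dvd π r).trans (Subgroup.orderOf_dvd_natCard _ hr)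
    have h12 : orderOf (π r) ∣ 4 * 3 := (orderOf_dvd_of_pow_eq_one hpow).trans hN
    exact orderOf_dvd_iff_pow_eq_one.1 (h3.dvd_of_dvd_mul_right h12)
  rcases (by omega : Fintype.card Ω = 3 ∨ Fintype.card Ω = 4) with hn | hn
  · left
    have hπ1 : ∀ r ∈ S.R, π r = 1 := by
      intro r hr
      have key : ∀ σ : Equiv.Perm (Fin 3), Equiv.Perm.sign σ = 1 →
          σ ^ 3 = 1 ∧ (σ ^ 4 = 1 → σ = 1) := by decide
      let eΩ : Ω ≃ Fin 3 := Fintype.equivFinOfCardEq hn
      obtain ⟨k1, k2⟩ := key (eΩ.permCongrHom (π r)) (by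
        rw [show eΩ.permCongrHom (π r) = eΩ.permCongr (π r) from rfl, Equiv.Perm.sign_permCongr,
          heven])
      rw [← map_pow, map_eq_one_iff _ (MulEquiv.injective _)] at k1
      refine (map_eq_one_iff _ (MulEquiv.injective eΩ.permCongrHom)).1 (k2 ?_)
      rw [← map_pow, hord4 r hr 3 (by norm_num) k1, map_one]
    have hfixe : ∀ r ∈ S.R, ∀ χ : Ω, S.ρ r (e χ.1) = sg r χ • e χ.1 := fun r hr χ => by
      rw [hsg, hπ1 r hr, Equiv.Perm.one_apply]
    have hext : ∀ x y : G, (∀ χ : Ω, S.ρ x (e χ.1) = S.ρ y (e χ.1)) → x = y := fun x y h =>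
      S.inj (B.ext fun χ => by rw [hB]; exact h χ)
    have hel : ∀ r ∈ S.R, r * r = 1 := fun r hr => hext _ _ fun χ => by
      rw [S.map_mul', S.map_one', hfixe r hr, map_smul, hfixe r hr, smul_smul, hsg1, one_smul]
    haveI hcomm : IsMulCommutative S.R := ⟨⟨fun x y => Subtype.ext (hext _ _ fun χ => by
      show S.ρ ((x : G) * y) _ = S.ρ ((y : G) * x) _
      rw [S.map_mul', S.map_mul', hfixe y y.2, map_smul, hfixe x x.2, map_smul, hfixe y y.2,
        smul_smul, smul_smul, mul_comm])⟩⟩
    refine ⟨⟨hcomm, fun r hr => by rw [pow_two]; exact hel r hr⟩, ?_⟩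
    let Sg : S.R → (Ω → {c : ZMod 3 // c * c = 1}) := fun r χ => ⟨sg r χ, hsg1 r χ⟩
    have hinj : Function.Injective Sg := fun x y h => Subtype.ext (hext _ _ fun χ => by
      rw [hfixe x x.2, hfixe y y.2]
      exact congrArg (· • e χ.1) (congrArg Subtype.val (congrFun h χ)))
    have hc8 : Nat.card (Ω → {c : ZMod 3 // c * c = 1}) = 8 := by
      rw [Nat.card_fun, Nat.card_eq_fintype_card (α := Ω), hn,
        show Nat.card {c : ZMod 3 // c * c = 1} = 2 by rw [Nat.card_eq_fintype_card]; decide]
      norm_num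
    have hle : Nat.card S.R ≤ 8 := hc8 ▸ Nat.card_le_card_of_injective Sg hinj
    have hne8 : Nat.card S.R ≠ 8 := by
      intro h8
      have hbij := (Nat.bijective_iff_injective_and_card Sg).2 ⟨hinj, by rw [h8, hc8]⟩
      obtain ⟨z, hz⟩ := hbij.2 fun _ => ⟨-1, by decide⟩
      have hneg : ∀ v, S.ρ (z : G) v = -v := by
        have : S.ρ (z : G) = -1 := B.ext fun χ => by
          have := congrArg Subtype.val (congrFun hz χ)
          rw [hB, hfixe z z.2, show sg (z : G) χ = -1 from this]
          simp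
        intro v; rw [this]; rfl
      have := S.eq_one_of_commute_b z.2 ((IsScalar.comm S (Or.inr hneg) S.b).symm)
      obtain ⟨χ⟩ : Nonempty Ω := ⟨⟨c0, hc0Ω⟩⟩
      have h1 := hneg (e χ.1)
      rw [this, S.map_one'] at h1
      exact he0 χ.1 χ.2 (eq_zero_of_eq_neg h1)
    have hp2 : IsPGroup 2 S.R := fun x => ⟨1, Subtype.ext (by rw [pow_one, pow_two]; exact hel x x.2)⟩
    obtain ⟨k, hk⟩ := hp2.exists_card_eq
    have h2 : 2 < Nat.card S.R := by
      by_contra hlt
      have hb : Commute S.b S.q := by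
        have hq : S.q2 ∈ ({1, S.q} : Set G) := by
          by_contra hq
          simp only [Set.mem_insert_iff, Set.mem_singleton_iff, not_or] at hq
          let T3 : Finset S.R := {1, ⟨S.q, S.q_mem⟩, ⟨S.q2, S.q2_mem⟩}
          have h3 : T3.card = 3 := by
            simp only [T3]
            rw [Finset.card_insert_of_notMem (by simp [Ne.symm S.q_ne, Subtype.ext_iff, Ne.symm hq.1]),
              Finset.card_insert_of_notMem (by simp [Subtype.ext_iff, Ne.symm hq.2]),
              Finset.card_singleton]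
          haveI : Fintype S.R := Fintype.ofFinite _
          have := T3.card_le_univ
          rw [h3, ← Nat.card_eq_fintype_card] at this
          omega
        rcases hq with h | h
        · exact absurd (conj_eq_one_iff.1 h) S.q_ne
        · exact mul_inv_eq_iff_eq_mul.1 h
      exact S.q_ne (S.eq_one_of_commute_b S.q_mem hb)
    have hk2 : 2 ^ 1 < 2 ^ k := by omega
    have hk3 : 2 ^ k ≤ 2 ^ 3 := by omega
    rw [Nat.pow_lt_pow_iff_right (by norm_num)] at hk2
    rw [Nat.pow_le_pow_iff_right (by norm_num)] at hk3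
    rcases (by omega : k = 2 ∨ k = 3) with rfl | rfl
    · simpa using hk
    · exact absurd (by simpa using hk) hne8
  · right
    refine ⟨hfin.trans hn, ?_⟩
    have hinv : ∀ r ∈ S.R, π r * π r = 1 ∧ (π r = 1 ∨ ∀ χ, π r χ ≠ χ) := by
      intro r hr
      have key : ∀ σ : Equiv.Perm (Fin 4), Equiv.Perm.sign σ = 1 →
          σ ^ 12 = 1 ∧ (σ ^ 4 = 1 → σ * σ = 1 ∧ (σ = 1 ∨ ∀ i, σ i ≠ i)) := by
        decide +kernel
      let eΩ : Ω ≃ Fin 4 := Fintype.equivFinOfCardEq hn
      obtain ⟨k1, k2⟩ := key (eΩ.permCongrHom (π r)) (by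
        rw [show eΩ.permCongrHom (π r) = eΩ.permCongr (π r) from rfl, Equiv.Perm.sign_permCongr,
          heven])
      rw [← map_pow, map_eq_one_iff _ (MulEquiv.injective _)] at k1
      obtain ⟨m1, m2⟩ := k2 (by rw [← map_pow, hord4 r hr 12 dvd_rfl k1, map_one])
      rw [← map_mul, map_eq_one_iff _ (MulEquiv.injective _)] at m1
      refine ⟨m1, m2.imp (map_eq_one_iff _ (MulEquiv.injective _)).1 fun h χ hχ => h (eΩ χ) ?_⟩
      show eΩ.permCongr (π r) (eΩ χ) = eΩ χ
      rw [Equiv.permCongr_apply, Equiv.symm_apply_apply, hχ]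
    have hscal : ∀ x : G, ∀ c : ZMod 3, c * c = 1 →
        (∀ χ : Ω, S.ρ x (e χ.1) = c • e χ.1) → S.IsScalar x := by
      intro x c hc h
      have hx : S.ρ x = c • 1 := B.ext fun χ => by rw [hB, h]; simp
      have key : ∀ d : ZMod 3, d * d = 1 → d = 1 ∨ d = -1 := by decide
      rcases key c hc with rfl | rfl
      · exact Or.inl fun v => by rw [hx]; simp
      · exact Or.inr fun v => by rw [hx]; simp
    have hdetprod : ∀ r ∈ S.R, ∏ χ, sg r χ = 1 := by
      intro r hr
      have hd := S.det_eq_one hr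
      rw [← LinearMap.det_toMatrix B] at hd
      have hM : LinearMap.toMatrix B B (S.ρ r) =
          (Matrix.diagonal (sg r)).submatrix ((π r)⁻¹ : Equiv.Perm Ω) id := by
        ext i j
        rw [LinearMap.toMatrix_apply, hB, hsg, ← hB, map_smul, Basis.repr_self,
          Finsupp.smul_apply, Finsupp.single_apply, Matrix.submatrix_apply, Matrix.diagonal_apply,
          id_eq]
        by_cases hij : π r j = i
        · rw [if_pos hij, if_pos (Equiv.Perm.inv_eq_iff_eq.2 hij.symm)]
          rw [Equiv.Perm.inv_eq_iff_eq.2 hij.symm]; simp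
        · rw [if_neg hij, if_neg (fun h => hij (Equiv.Perm.inv_eq_iff_eq.1 h).symm), smul_zero]
      rw [hM, Matrix.det_permute, Matrix.det_diagonal, map_inv, heven, inv_one] at hd
      simpa using hd
    have hcons : ∀ r ∈ S.R, S.IsScalar (r * r) := by
      intro r hr
      obtain ⟨hsq, hfp⟩ := hinv r hr
      have hrr : ∀ χ : Ω, S.ρ (r * r) (e χ.1) = (sg r χ * sg r (π r χ)) • e χ.1 := fun χ => by
        rw [S.map_mul', hsg, map_smul, hsg, smul_smul, ← Equiv.Perm.mul_apply, hsq,
          Equiv.Perm.one_apply]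
      rcases hfp with h1 | hfp
      · refine hscal _ 1 (one_mul 1) fun χ => ?_
        rw [hrr, h1, Equiv.Perm.one_apply, hsg1]
      · obtain ⟨χ⟩ : Nonempty Ω := ⟨⟨c0, hc0Ω⟩⟩
        have hpp : ∀ η, π r (π r η) = η := fun η => by
          rw [← Equiv.Perm.mul_apply, hsq, Equiv.Perm.one_apply]
        refine hscal _ (sg r χ * sg r (π r χ)) (by
          rw [mul_mul_mul_comm, hsg1, hsg1, one_mul]) fun η => ?_
        rw [hrr]
        congr 1
        by_cases e1 : η = χ
        · rw [e1]
        by_cases e2 : η = π r χ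
        · rw [e2, hpp, mul_comm]
        have e3 : π r η ≠ χ := fun h => e2 (by rw [← h, hpp])
        have e4 : π r η ≠ π r χ := fun h => e1 ((π r).injective h)
        have huniv : (Finset.univ : Finset Ω) = {χ, π r χ, η, π r η} := by
          symm
          apply Finset.eq_univ_of_card
          rw [hn, Finset.card_insert_of_notMem (by simp [Ne.symm (hfp χ), Ne.symm e1, Ne.symm e3]),
            Finset.card_insert_of_notMem (by simp [Ne.symm e2, Ne.symm e4]),
            Finset.card_insert_of_notMem (by simp [Ne.symm (hfp η)]), Finset.card_singleton]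
        have hp := hdetprod r hr
        rw [huniv, Finset.prod_insert (by simp [Ne.symm (hfp χ), Ne.symm e1, Ne.symm e3]),
          Finset.prod_insert (by simp [Ne.symm e2, Ne.symm e4]),
          Finset.prod_insert (by simp [Ne.symm (hfp η)]), Finset.prod_singleton] at hp
        calc sg r η * sg r (π r η)
            = (sg r χ * sg r χ) * (sg r (π r χ) * sg r (π r χ)) *
                (sg r η * sg r (π r η)) := by rw [hsg1, hsg1, one_mul, one_mul]
          _ = sg r χ * sg r (π r χ) * (sg r χ * (sg r (π r χ) * (sg r η * sg r (π r η)))) := by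
              ring
          _ = sg r χ * sg r (π r χ) := by rw [hp, mul_one]
    refine ⟨hcons, fun x hx hcen => ?_⟩
    have hx1 : π x = 1 := by
      ext χ : 1
      apply Subtype.ext
      have hm := S.map_eigA A x (he χ.1 χ.2)
      have hm2 : S.ρ x (e χ.1) ∈ S.eigA A χ.1 := (S.mem_eigA A).2 fun a => by
        rw [← S.map_mul', ← hcen _ (hAR a.2), S.map_mul', (S.mem_eigA A).1 (he χ.1 χ.2) a, map_smul]
      exact S.eigA_unique A (fun h => he0 χ.1 χ.2 (S.apply_inj x (by rw [h, map_zero]))) hm hm2
    have hinvs : ∀ r ∈ S.R, ∀ χ, sg x (π r χ) = sg x χ := by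
      intro r hr χ
      have h := congrArg (fun g => S.ρ g (e χ.1)) (hcen r hr)
      simp only [S.map_mul', hsg, map_smul, hx1, Equiv.Perm.one_apply, smul_smul] at h
      have h0 : sg r χ ≠ 0 := fun h0 => by have := hsg1 r χ; rw [h0, mul_zero] at this; exact zero_ne_one this
      have := smul_left_injective (ZMod 3) (he0 _ (π r χ).2) h
      rw [mul_comm (sg x χ)] at this
      exact mul_left_cancel₀ h0 this
    -- a point fixed by `b` and the transitivity of the image of `R`
    obtain ⟨χf, hχf⟩ : ∃ χ : Ω, π S.b χ = χ := by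
      by_contra hno
      push Not at hno
      have : (π S.b).support = Finset.univ := by ext χ; simp [Equiv.Perm.mem_support, hno χ]
      have h3 := hthree.card_support
      rw [this, Finset.card_univ, hn] at h3
      omega
    obtain ⟨r0, hr0, hr0f⟩ : ∃ r ∈ S.R, π r χf ≠ χf := by
      by_contra hno
      push Not at hno
      let K := (MulAction.stabilizer (Equiv.Perm Ω) χf).comap π
      have htop : (⊤ : Subgroup G) ≤ K := by
        rw [← S.gen]
        exact sup_le hno (zpowers_le.2 hχf)
      obtain ⟨g, hg⟩ := MulAction.exists_smul_eq P χf ⟨c0, hc0Ω⟩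
      obtain ⟨_, k, rfl⟩ := g
      have h1 : π k χf = χf := htop (mem_top k)
      have h2 : π k χf = ⟨c0, hc0Ω⟩ := hg
      have : f S.b c0 = c0 := by
        have := congrArg Subtype.val hχf
        rw [π_apply, ← h1, h2] at this
        exact this
      exact hc0 this
    have hbtrans : ∀ r ∈ S.R, π (S.b * r * S.b⁻¹) χf = π S.b (π r χf) := fun r _ => by
      rw [map_mul, map_mul, Equiv.Perm.mul_apply, Equiv.Perm.mul_apply, map_inv,
        Equiv.Perm.inv_eq_iff_eq.2 hχf.symm]
    refine hscal x (sg x χf) (hsg1 x χf) fun η => ?_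
    rw [hsg, hx1, Equiv.Perm.one_apply]
    congr 1
    set r1 := S.b * r0 * S.b⁻¹
    have hr1 : r1 ∈ S.R := S.Rn.conj_mem _ hr0 _
    set r2 := S.b * r1 * S.b⁻¹
    have hr2 : r2 ∈ S.R := S.Rn.conj_mem _ hr1 _
    set u := π r0 χf with hu
    have hu1 : π r1 χf = π S.b u := hbtrans r0 hr0
    have hu2 : π r2 χf = π S.b (π S.b u) := by rw [hbtrans r1 hr1, hu1]
    have humove : π S.b u ≠ u := by
      intro h
      have hsup : ({χf, u} : Finset Ω) ⊆ (π S.b).supportᶜ := by
        intro w hw
        simp only [Finset.mem_insert, Finset.mem_singleton] at hw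
        rw [Finset.mem_compl, Equiv.Perm.notMem_support]
        rcases hw with rfl | rfl
        · exact hχf
        · exact h
      have := Finset.card_le_card hsup
      rw [Finset.card_compl, hthree.card_support, hn,
        Finset.card_insert_of_notMem (by simpa using Ne.symm hr0f), Finset.card_singleton] at this
      omega
    have hcase : η = χf ∨ η = u ∨ η = π S.b u ∨ η = π S.b (π S.b u) := by
      have hb3 : π S.b (π S.b (π S.b u)) = u := Subtype.ext (fb3 u.1)
      have d1 : π S.b (π S.b u) ≠ u := fun h => humove (by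
        conv_rhs => rw [← hb3, h])
      have d2 : π S.b (π S.b u) ≠ π S.b u := fun h => humove ((π S.b).injective h)
      have f1 : π S.b u ≠ χf := fun h => hr0f ((π S.b).injective (h.trans hχf.symm))
      have f2 : π S.b (π S.b u) ≠ χf := fun h => f1 ((π S.b).injective (h.trans hχf.symm))
      have huniv : (Finset.univ : Finset Ω) = {χf, u, π S.b u, π S.b (π S.b u)} := by
        symm
        apply Finset.eq_univ_of_card
        rw [hn, Finset.card_insert_of_notMem (by simp [Ne.symm hr0f, Ne.symm f1, Ne.symm f2]),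
          Finset.card_insert_of_notMem (by simp [Ne.symm humove, Ne.symm d1]),
          Finset.card_insert_of_notMem (by simp [Ne.symm d2]), Finset.card_singleton]
      have := huniv ▸ Finset.mem_univ η
      simpa using this
    rcases hcase with h | h | h | h <;> rw [h]
    · exact hinvs r0 hr0 χf
    · rw [← hu1]; exact hinvs r1 hr1 χf
    · rw [← hu2]; exact hinvs r2 hr2 χf

end Setting

end Cfsg.Agent.CubicBlock
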