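import Cfsg.Agent.Lib.CubicBlock.Basic

/-!
# Irreducibility and abelian normal subgroups of odd exponent

* `eq_top_of_invariant`: the module is irreducible;
* `eq_one_of_small`: an operator of prime order `r ≥ 5` moving at most two dimensions is trivial;
* `eq_bot_of_exponent`: an abelian normal subgroup of `R` of prime exponent `r ≥ 5` is trivial.
-/

set_option autoImplicit false
set_option linter.style.haveILetI false
set_option linter.unusedSectionVars false

namespace Cfsg.Agent.CubicBlock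

open Subgroup Module

theorem eq_one_of_small {V : Type*} [AddCommGroup V] [Module (ZMod 3) V] [Finite V]
    (T : V →ₗ[ZMod 3] V) {r : ℕ} (hr : r.Prime) (h5 : 5 ≤ r) (hT : T ^ r = 1)
    (h : finrank (ZMod 3) (LinearMap.range (T - 1)) ≤ 2) : T = 1 := by
  classical
  set M := LinearMap.range (T - 1) with hM
  have hinv : ∀ v ∈ M, T v ∈ M := by
    rintro _ ⟨w, rfl⟩
    exact ⟨T w, by simp⟩
  have hTM : T.restrict hinv = 1 := by
    have hpow : (T.restrict hinv) ^ r = 1 := by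
      refine LinearMap.ext fun v => Subtype.ext ?_
      rw [Module.End.pow_restrict r (h := hinv)]
      simp only [LinearMap.coe_restrict_apply, hT]
      rfl
    let u : (M →ₗ[ZMod 3] M)ˣ := Units.ofPowEqOne _ r hpow hr.ne_zero
    have hu : u ^ r = 1 := Units.ext hpow
    have hcard : ∃ k ≤ 2, Nat.card (M →ₗ[ZMod 3] M)ˣ =
        ∏ i : Fin k, (3 ^ k - 3 ^ (i : ℕ)) := by
      refine ⟨finrank (ZMod 3) M, h, ?_⟩
      rw [Nat.card_congr (Units.mapEquiv (LinearMap.toMatrixAlgEquiv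
        (Module.finBasis (ZMod 3) M)).toRingEquiv.toMulEquiv).toEquiv]
      have := Matrix.card_GL_field (𝔽 := ZMod 3) (finrank (ZMod 3) M)
      rw [ZMod.card] at this
      exact this
    obtain ⟨k, hk, hc⟩ := hcard
    have h48 : Nat.card (M →ₗ[ZMod 3] M)ˣ ∣ 48 := by
      rw [hc]
      interval_cases k <;> simp [Fin.prod_univ_succ]
    have hord : orderOf u ∣ 1 := by
      have h1 : orderOf u ∣ Nat.gcd r 48 :=
        Nat.dvd_gcd (orderOf_dvd_of_pow_eq_one hu) ((orderOf_dvd_natCard u).trans h48)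
      have h2 : Nat.gcd r 48 = 1 := by
        rw [← Nat.coprime_iff_gcd_eq_one, hr.coprime_iff_not_dvd]
        intro hd
        have : r ∣ 2 ^ 4 * 3 := by norm_num; exact hd
        rcases hr.dvd_mul.1 this with h' | h'
        · have := (Nat.prime_dvd_prime_iff_eq hr Nat.prime_two).1 (hr.dvd_of_dvd_pow h')
          omega
        · have := (Nat.prime_dvd_prime_iff_eq hr Nat.prime_three).1 h'
          omega
      rwa [h2] at h1
    have : u = 1 := orderOf_eq_one_iff.1 (Nat.dvd_one.1 hord)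
    exact congrArg Units.val this
  refine LinearMap.ext fun v => ?_
  set m := (T - 1) v with hm
  have hTm : T m = m := congrArg Subtype.val (LinearMap.congr_fun hTM ⟨m, v, rfl⟩)
  have key : ∀ i : ℕ, (T ^ i) v = v + (i : ZMod 3) • m := by
    intro i
    induction i with
    | zero => simp
    | succ i ih =>
      rw [pow_succ', Module.End.mul_apply, ih, map_add, map_smul, hTm, Nat.cast_succ, add_smul,
        one_smul, hm]
      simp only [LinearMap.sub_apply, Module.End.one_apply]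
      abel
  have h0 : (r : ZMod 3) • m = 0 := by
    have := key r
    rw [hT, Module.End.one_apply] at this
    exact (add_eq_left.1 this.symm)
  have hr3 : (r : ZMod 3) ≠ 0 := by
    intro h0
    have := (Nat.prime_dvd_prime_iff_eq Nat.prime_three hr).1 ((ZMod.natCast_eq_zero_iff r 3).1 h0)
    omega
  rcases smul_eq_zero.1 h0 with h' | h'
  · exact absurd h' hr3
  · rw [hm] at h'
    simpa [sub_eq_zero] using h'

namespace Setting

variable {G W : Type*} [Group G] [Finite G] [AddCommGroup W] [Module (ZMod 3) W] [Finite W]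
  (S : Setting G W)

theorem eq_top_of_invariant (U : Submodule (ZMod 3) W) (hU : ∀ g, ∀ v ∈ U, S.ρ g v ∈ U)
    (hne : U ≠ ⊥) : U = ⊤ := by
  classical
  have hb : ¬ ∀ u ∈ U, S.ρ S.b u = u := by
    intro hfix
    let N : Subgroup G :=
      { carrier := {g | ∀ u ∈ U, S.ρ g u = u}
        one_mem' := fun u _ => S.map_one' u
        mul_mem' := fun {x y} hx hy u hu => by rw [S.map_mul', hy u hu, hx u hu]
        inv_mem' := fun {x} hx u hu => by
          conv_lhs => rw [← hx u hu]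
          exact S.inv_apply x u }
    have hNn : N.Normal := ⟨fun x hx g u hu => by
      rw [S.map_mul', S.map_mul', hx _ (hU g⁻¹ u hu), ← S.map_mul', mul_inv_cancel, S.map_one']⟩
    refine hne ((Submodule.eq_bot_iff _).2 fun u hu => S.fpf u fun r hr => ?_)
    rw [← S.comm] at hr
    exact (commutator_le_right S.R N) (commutator_mono le_rfl (zpowers_le.2 (show S.b ∈ N from hfix)) hr) u hu
  push Not at hb
  obtain ⟨u, hu, hub⟩ := hb
  obtain ⟨c, hc, l1, h1, l2, h2, l3, h3, e⟩ := S.decomp u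
  obtain ⟨c1, c2⟩ := S.mem_C.1 hc
  obtain ⟨a1, a2⟩ := S.mem_L1.1 h1
  obtain ⟨b1, b2⟩ := S.mem_L2.1 h2
  obtain ⟨d1, d2⟩ := S.mem_L3.1 h3
  have four : ∀ x : W, x + x + x + x = x := fun x => by rw [three_eq, zero_add]
  have hm1 : l1 ∈ U := by
    have : u + S.ρ S.q u - S.ρ S.q2 u - S.ρ S.q (S.ρ S.q2 u) ∈ U :=
      U.sub_mem (U.sub_mem (U.add_mem hu (hU _ _ hu)) (hU _ _ hu)) (hU _ _ (hU _ _ hu))
    rw [e] at this
    simp only [map_add, map_neg, c1, c2, a1, a2, b1, b2, d1, d2] at this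
    rw [← four l1]
    convert this using 1
    abel
  have hm2 : l2 ∈ U := by
    have : u - S.ρ S.q u + S.ρ S.q2 u - S.ρ S.q (S.ρ S.q2 u) ∈ U :=
      U.sub_mem (U.add_mem (U.sub_mem hu (hU _ _ hu)) (hU _ _ hu)) (hU _ _ (hU _ _ hu))
    rw [e] at this
    simp only [map_add, map_neg, c1, c2, a1, a2, b1, b2, d1, d2] at this
    rw [← four l2]
    convert this using 1
    abel
  have hm3 : l3 ∈ U := by
    have : u - S.ρ S.q u - S.ρ S.q2 u + S.ρ S.q (S.ρ S.q2 u) ∈ U :=
      U.add_mem (U.sub_mem (U.sub_mem hu (hU _ _ hu)) (hU _ _ hu)) (hU _ _ (hU _ _ hu))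
    rw [e] at this
    simp only [map_add, map_neg, c1, c2, a1, a2, b1, b2, d1, d2] at this
    rw [← four l3]
    convert this using 1
    abel
  obtain ⟨f1, f2, f3⟩ := S.finrank_L1
  have hle : ∀ (A : Submodule (ZMod 3) W), finrank (ZMod 3) A = 1 → ∀ x ∈ A, x ≠ 0 → x ∈ U →
      A ≤ U := by
    intro A hA x hx hx0 hxU v hv
    obtain ⟨a, ha⟩ := (finrank_eq_one_iff_of_nonzero' (⟨x, hx⟩ : A) (by simpa using hx0)).1 hA
      ⟨v, hv⟩
    have : v = a • x := (congrArg Subtype.val ha).symm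
    rw [this]; exact U.smul_mem _ hxU
  have step1 : S.L1 ≤ U → S.L2 ≤ U ∧ S.L3 ≤ U := by
    intro hL
    obtain ⟨x, hx, hx0⟩ := (Submodule.ne_bot_iff _).1 S.L1_ne_bot
    have hbx : S.ρ S.b x ≠ 0 := fun h => hx0 (S.apply_inj S.b (by rw [h, map_zero]))
    have hL2 := hle S.L2 f2 _ (S.b_mem_L2 hx) hbx (hU _ _ (hL hx))
    exact ⟨hL2, hle S.L3 f3 _ (S.b_mem_L3 (S.b_mem_L2 hx))
      (fun h => hbx (S.apply_inj S.b (by rw [h, map_zero]))) (hU _ _ (hL2 (S.b_mem_L2 hx)))⟩
  have hL1 : S.L1 ≤ U := by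
    by_cases g1 : l1 = 0
    · by_cases g2 : l2 = 0
      · by_cases g3 : l3 = 0
        · exfalso
          apply hub
          rw [e, g1, g2, g3]
          simp [S.apply_b_of_mem_C hc]
        · exact hle _ f1 _ (S.b_mem_L1 h3) (fun h => g3 (S.apply_inj S.b (by rw [h, map_zero])))
            (hU _ _ hm3)
      · exact hle _ f1 _ (S.b_mem_L1 (S.b_mem_L3 h2))
          (fun h => g2 (S.apply_inj S.b (S.apply_inj S.b (by rw [h, map_zero, map_zero]))))
          (hU _ _ (hU _ _ hm2))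
    · exact hle _ f1 _ h1 g1 hm1
  obtain ⟨hL2, hL3⟩ := step1 hL1
  have hbU : ∀ v, S.ρ S.b v - v ∈ U := fun v => S.range_le hL1 hL2 hL3 ⟨v, rfl⟩
  have hR := S.moves_into U hU hbU
  rw [Submodule.eq_top_iff']
  intro v
  letI : Fintype S.R := Fintype.ofFinite _
  set m := ∑ r : S.R, S.ρ (r : G) v with hm
  have hm0 : m = 0 := S.fpf m fun r hr => by
    rw [hm, map_sum]
    refine Fintype.sum_equiv (Equiv.mulLeft (⟨r, hr⟩ : S.R)) _ _ fun x => ?_
    rw [← S.map_mul']; rfl
  have hsum : ∑ r : S.R, (S.ρ (r : G) v - v) ∈ U := U.sum_mem fun r _ => hR _ r.2 v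
  rw [Finset.sum_sub_distrib, ← hm, hm0, zero_sub, Finset.sum_const, Finset.card_univ,
    ← Nat.card_eq_fintype_card, U.neg_mem_iff, ← Nat.cast_smul_eq_nsmul (ZMod 3)] at hsum
  have h3 : (Nat.card S.R : ZMod 3) ≠ 0 := fun h0 => by
    have := Nat.dvd_gcd ((ZMod.natCast_eq_zero_iff _ _).1 h0) (dvd_refl 3)
    rw [S.cop] at this
    norm_num at this
  exact (U.smul_mem_iff h3).1 hsum

theorem eq_bot_of_fixed {A : Subgroup G} (hA : A.Normal)
    (h : ∃ v : W, v ≠ 0 ∧ ∀ a ∈ A, S.ρ a v = v) : A = ⊥ :=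
  S.eq_one_of_common_fixed hA h S.eq_top_of_invariant

theorem roleA {x : G} {r : ℕ} (hr : r.Prime) (h5 : 5 ≤ r) (hx : x ^ r = 1)
    (hq : S.q * x * S.q = x⁻¹) (h3 : Commute (S.q * S.q2) x) : x = 1 := by
  set t := S.q * S.q2 with ht
  set U : Submodule (ZMod 3) W := LinearMap.ker (S.ρ t + 1) with hUdef
  have memU : ∀ v, v ∈ U ↔ S.ρ t v = -v := fun v => by
    simp [hUdef, add_eq_zero_iff_eq_neg]
  have htc : ∀ y : G, Commute t y → ∀ v, S.ρ t (S.ρ y v) = S.ρ y (S.ρ t v) := fun y hy v => by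
    rw [← S.map_mul', hy.eq, S.map_mul']
  have hinv : ∀ v ∈ U, S.ρ x v ∈ U := fun v hv => by
    rw [memU] at hv ⊢; rw [htc x h3, hv, map_neg]
  have hU2 : finrank (ZMod 3) U ≤ 2 := by
    have hle : U ≤ S.L1 ⊔ S.L2 := by
      intro v hv
      rw [memU] at hv
      obtain ⟨c, hc, l1, h1, l2, h2, l3, h3', e⟩ := S.decomp v
      rw [e, ht, S.map_mul'] at hv
      simp only [map_add, map_neg, S.mem_C.1 hc, S.mem_L1.1 h1, S.mem_L2.1 h2, S.mem_L3.1 h3',
        neg_neg] at hv
      obtain ⟨z0, -, -, z3⟩ := S.indep (S.C.add_mem hc hc) S.L1.zero_mem S.L2.zero_mem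
        (S.L3.add_mem h3' h3') (by
          calc c + c + 0 + 0 + (l3 + l3) = (c + -l1 + -l2 + l3) + (c + l1 + l2 + l3) := by abel
            _ = 0 := by rw [hv]; abel)
      have c0 : c = 0 := eq_zero_of_eq_neg (eq_neg_of_add_eq_zero_left z0)
      have l30 : l3 = 0 := eq_zero_of_eq_neg (eq_neg_of_add_eq_zero_left z3)
      rw [e, c0, l30, zero_add, add_zero]
      exact Submodule.add_mem_sup h1 h2
    obtain ⟨f1, f2, -⟩ := S.finrank_L1
    have := Submodule.finrank_mono hle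
    have := Submodule.finrank_add_le_finrank_add_finrank S.L1 S.L2
    omega
  have hxU : (S.ρ x).restrict hinv = 1 := by
    refine eq_one_of_small _ hr h5 ?_ (le_trans (Submodule.finrank_le _) hU2)
    refine LinearMap.ext fun v => Subtype.ext ?_
    rw [Module.End.pow_restrict r (h := hinv)]
    simp only [LinearMap.coe_restrict_apply, ← map_pow, hx, S.map_one']
    rfl
  have fixU : ∀ v ∈ U, S.ρ x v = v := fun v hv =>
    congrArg Subtype.val (LinearMap.congr_fun hxU ⟨v, hv⟩)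
  have hx2 : x * x = x * S.q * x⁻¹ * S.q := by
    rw [← hq]; rw [show x * S.q * (S.q * x * S.q) * S.q = x * (S.q * S.q) * x * (S.q * S.q) by group,
      S.q_sq]; group
  have hr2 : finrank (ZMod 3) (LinearMap.range (S.ρ (x * x) - 1)) ≤ 2 := by
    have hle : LinearMap.range (S.ρ (x * x) - 1) ≤ S.L3.map (S.ρ x) ⊔ S.L3 := by
      rintro _ ⟨v, rfl⟩
      obtain ⟨c, hc, l1, h1, l2, h2, l3, h3', e⟩ := S.decomp v
      have hu : l1 + l2 ∈ U := by
        rw [memU, ht, S.map_mul']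
        simp only [map_add, map_neg, S.mem_L1.1 h1, S.mem_L2.1 h2]
        abel
      have hh : S.ρ t (c + l3) = c + l3 := by
        rw [ht, S.map_mul']
        simp only [map_add, map_neg, S.mem_C.1 hc, S.mem_L3.1 h3', neg_neg]
      have diff : ∀ w, S.ρ t w = w → S.ρ S.q w - w ∈ S.L3 := by
        intro w hw
        obtain ⟨c', hc', m1, k1, m2, k2, m3, k3, e'⟩ := S.decomp w
        rw [e', ht, S.map_mul'] at hw
        simp only [map_add, map_neg, S.mem_C.1 hc', S.mem_L1.1 k1, S.mem_L2.1 k2, S.mem_L3.1 k3,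
          neg_neg] at hw
        obtain ⟨-, y1, y2, -⟩ := S.indep S.C.zero_mem (S.L1.add_mem k1 k1) (S.L2.add_mem k2 k2)
          S.L3.zero_mem (by
            calc 0 + (m1 + m1) + (m2 + m2) + 0 = (c' + m1 + m2 + m3) - (c' + -m1 + -m2 + m3) := by
                  abel
              _ = 0 := by rw [hw]; abel)
        have m10 : m1 = 0 := eq_zero_of_eq_neg (eq_neg_of_add_eq_zero_left y1)
        have m20 : m2 = 0 := eq_zero_of_eq_neg (eq_neg_of_add_eq_zero_left y2)
        rw [e']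
        simp only [map_add, S.mem_C.1 hc', S.mem_L3.1 k3, m10, m20, map_zero]
        have : c' + 0 + 0 + -m3 - (c' + 0 + 0 + m3) = -(m3 + m3) := by abel
        rw [this]
        exact S.L3.neg_mem (S.L3.add_mem k3 k3)
      have hfu : S.ρ (x * x) (l1 + l2) = l1 + l2 := by rw [S.map_mul', fixU _ hu, fixU _ hu]
      have key : (S.ρ (x * x) - 1) v = S.ρ (x * x) (c + l3) - (c + l3) := by
        rw [LinearMap.sub_apply, Module.End.one_apply, e,
          show c + l1 + l2 + l3 = (l1 + l2) + (c + l3) by abel, map_add, hfu]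
        abel
      rw [key, hx2, S.map_mul', S.map_mul', S.map_mul']
      set w := S.ρ S.q (c + l3) with hw
      have tq : Commute t S.q := by
        rw [ht]; exact (Commute.refl S.q).mul_left S.q_comm.symm
      have hw' : S.ρ t w = w := by rw [hw, htc _ tq, hh]
      have hz : S.ρ t (S.ρ x⁻¹ w) = S.ρ x⁻¹ w := by rw [htc _ h3.inv_right, hw']
      have e2 : S.ρ x (S.ρ S.q (S.ρ x⁻¹ w)) - (c + l3) =
          S.ρ x (S.ρ S.q (S.ρ x⁻¹ w) - S.ρ x⁻¹ w) + (w - (c + l3)) := by
        rw [map_sub, ← S.map_mul' x x⁻¹, mul_inv_cancel, S.map_one']; abel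
      rw [e2]
      exact Submodule.add_mem_sup (Submodule.mem_map_of_mem (diff _ hz)) (diff _ hh)
    obtain ⟨-, -, f3⟩ := S.finrank_L1
    have h1 := Submodule.finrank_mono hle
    have h2 := Submodule.finrank_add_le_finrank_add_finrank (S.L3.map (S.ρ x)) S.L3
    have h4 := Submodule.finrank_map_le (S.ρ x) S.L3
    omega
  have h1 : x * x = 1 := S.inj (by
    rw [map_one]
    refine eq_one_of_small _ hr h5 ?_ hr2
    rw [← map_pow, ← pow_two, ← pow_mul, mul_comm, pow_mul, hx, one_pow, map_one])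
  obtain ⟨k, hk⟩ := hr.odd_of_ne_two (by omega)
  rw [hk, pow_succ, pow_mul, pow_two, h1, one_pow, one_mul] at hx
  exact hx

include S in
theorem eq_bot_of_exponent {A : Subgroup G} (hA : A.Normal) [IsMulCommutative A] {r : ℕ}
    (hr : r.Prime) (h5 : 5 ≤ r) (hpow : ∀ a ∈ A, a ^ r = 1) : A = ⊥ := by
  have comA : ∀ u ∈ A, ∀ v ∈ A, u * v = v * u := fun u hu v hv =>
    congrArg Subtype.val (mul_comm' (⟨u, hu⟩ : A) ⟨v, hv⟩)
  set q := S.q
  set q2 := S.q2
  have qq : q * q = 1 := S.q_sq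
  have pp : q2 * q2 = 1 := S.q2_sq
  have qinv : q⁻¹ = q := inv_eq_of_mul_eq_one_right qq
  have pinv : q2⁻¹ = q2 := inv_eq_of_mul_eq_one_right pp
  have qp : q * q2 = q2 * q := S.q_comm.eq
  have cq : ∀ a ∈ A, q * a * q ∈ A := fun a ha => by
    have := hA.conj_mem a ha q; rwa [qinv] at this
  have cp : ∀ a ∈ A, q2 * a * q2 ∈ A := fun a ha => by
    have := hA.conj_mem a ha q2; rwa [pinv] at this
  have roleB : ∀ x ∈ A, q * x * q = x⁻¹ → q2 * x * q2 = x → x = 1 := by
    intro x hx hxq hxp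
    have hb1 : S.b * q * S.b⁻¹ = q2 := rfl
    have hb2 : S.b * q2 * S.b⁻¹ = q * q2 := S.q_prod
    have hb3 : S.b * (q * q2) * S.b⁻¹ = q := by
      calc S.b * (q * q2) * S.b⁻¹ = (S.b * q * S.b⁻¹) * (S.b * q2 * S.b⁻¹) := by group
        _ = q := by rw [hb1, hb2, ← mul_assoc, ← qp, mul_assoc, pp, mul_one]
    set y := S.b * x * S.b⁻¹ with hy
    have y1 : S.q * y * S.q = y⁻¹ := by
      have : S.b * (q * q2 * x * (q * q2)) * S.b⁻¹ = q * y * q := by
        conv_rhs => rw [← hb3, hy]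
        group
      rw [← this]
      have e : q * q2 * x * (q * q2) = x⁻¹ := by
        rw [qp, show q2 * q * x * (q2 * q) = q2 * (q * x * q) * (q⁻¹ * q2 * q) by group,
          show q⁻¹ * q2 * q = q2 by rw [qinv, qp, mul_assoc, qq, mul_one], hxq]
        calc q2 * x⁻¹ * q2 = (q2⁻¹ * x * q2⁻¹)⁻¹ := by group
          _ = x⁻¹ := by rw [pinv, hxp]
      rw [e, hy]; group
    have y2 : Commute (S.q * S.q2) y := by
      have : S.b * (q2 * x * q2) * S.b⁻¹ = (q * q2) * y * (q * q2) := by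
        conv_rhs => rw [← hb2, hy]
        group
      rw [hxp, ← hy] at this
      show (q * q2) * y = y * (q * q2)
      conv_rhs => rw [this]
      rw [mul_assoc _ (q * q2) (q * q2), show (q * q2) * (q * q2) = q * (q2 * q) * q2 by group, ← qp,
        show q * (q * q2) * q2 = (q * q) * (q2 * q2) by group, qq, pp, mul_one, mul_one]
    have := S.roleA hr h5 (by rw [hy, conj_pow, hpow x hx]; group) y1 y2
    rw [hy] at this
    calc x = S.b⁻¹ * (S.b * x * S.b⁻¹) * S.b := by group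
      _ = 1 := by rw [this]; group
  have hfixq : ∀ a ∈ A, q * a * q = a := by
    intro a ha
    set y := q * a * q * a⁻¹ with hy
    have hyA : y ∈ A := mul_mem (cq a ha) (inv_mem ha)
    have hyq : q * y * q = y⁻¹ := by
      have e : q * y * q = a * (q * a⁻¹ * q) := by
        rw [hy, show q * (q * a * q * a⁻¹) * q = (q * q) * a * (q * a⁻¹ * q) by group, qq, one_mul]
      rw [e, hy]
      calc a * (q * a⁻¹ * q) = a * (q⁻¹ * a * q⁻¹)⁻¹ := by group
        _ = (q * a * q * a⁻¹)⁻¹ := by rw [qinv]; group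
    set z := q2 * y * q2 * y⁻¹ with hz
    have hzA : z ∈ A := mul_mem (cp y hyA) (inv_mem hyA)
    have conjq : ∀ u v : G, q * (u * v) * q = (q * u * q) * (q * v * q) := fun u v => by
      rw [show q * u * q * (q * v * q) = q * u * (q * q) * v * q by group, qq]; group
    have hzq : S.q * z * S.q = z⁻¹ := by
      have h1 : q * (q2 * y * q2) * q = q2 * y⁻¹ * q2 := by
        rw [show q * (q2 * y * q2) * q = (q * q2) * y * (q2 * q) by group, ← qp]
        conv_lhs => arg 1; arg 1; rw [qp]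
        rw [show q2 * q * y * (q * q2) = q2 * (q * y * q) * q2 by group, hyq]
      have h2 : q * y⁻¹ * q = y := by
        calc q * y⁻¹ * q = (q⁻¹ * y * q⁻¹)⁻¹ := by group
          _ = y := by rw [qinv, hyq, inv_inv]
      rw [hz, conjq, h1, h2, comA _ (cp _ (inv_mem hyA)) _ hyA]
      calc y * (q2 * y⁻¹ * q2) = y * (q2⁻¹ * y * q2⁻¹)⁻¹ := by group
        _ = (q2 * y * q2 * y⁻¹)⁻¹ := by rw [pinv]; group
    have hzp : q2 * z * q2 = z⁻¹ := by
      rw [hz, show q2 * (q2 * y * q2 * y⁻¹) * q2 = (q2 * q2) * y * (q2 * y⁻¹ * q2) by group, pp,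
        one_mul]
      calc y * (q2 * y⁻¹ * q2) = y * (q2⁻¹ * y * q2⁻¹)⁻¹ := by group
        _ = (q2 * y * q2 * y⁻¹)⁻¹ := by rw [pinv]; group
    have hz3 : Commute (S.q * S.q2) z := by
      have h1 : (q * q2) * z * (q * q2)⁻¹ = z := by
        rw [mul_inv_rev, qinv, pinv, show q * q2 * z * (q2 * q) = q * (q2 * z * q2) * q by group, hzp]
        calc q * z⁻¹ * q = (q⁻¹ * z * q⁻¹)⁻¹ := by group
          _ = z := by rw [qinv, hzq, inv_inv]
      exact mul_inv_eq_iff_eq_mul.1 h1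
    have z1 := S.roleA hr h5 (hpow z hzA) hzq hz3
    rw [hz] at z1
    have := roleB y hyA hyq (mul_inv_eq_one.1 z1)
    rw [hy] at this
    exact mul_inv_eq_one.1 this
  have hfixp : ∀ a ∈ A, q2 * a * q2 = a := by
    intro a ha
    have h := hfixq _ (by simpa using hA.conj_mem a ha S.b⁻¹ : S.b⁻¹ * a * S.b ∈ A)
    calc q2 * a * q2 = S.b * (q * (S.b⁻¹ * a * S.b) * q) * S.b⁻¹ := by
          show S.b * S.q * S.b⁻¹ * a * (S.b * S.q * S.b⁻¹) =
            S.b * (S.q * (S.b⁻¹ * a * S.b) * S.q) * S.b⁻¹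
          group
      _ = a := by rw [h]; group
  obtain ⟨x, hx, hx0⟩ := (Submodule.ne_bot_iff _).1 S.L1_ne_bot
  refine S.eq_bot_of_fixed hA ⟨x, hx0, fun a ha => ?_⟩
  have hc : ∀ s : G, s * s = 1 → s * a * s = a → ∀ v, S.ρ s (S.ρ a v) = S.ρ a (S.ρ s v) :=
    fun s hs hsa v => by
      rw [← S.map_mul', ← S.map_mul']
      congr 2
      conv_rhs => rw [← hsa, mul_assoc, hs, mul_one]
  have hm : S.ρ a x ∈ S.L1 := S.mem_L1.2
    ⟨by rw [hc q qq (hfixq a ha), (S.mem_L1.1 hx).1],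
     by rw [hc q2 pp (hfixp a ha), (S.mem_L1.1 hx).2, map_neg]⟩
  obtain ⟨c, hc'⟩ := (finrank_eq_one_iff_of_nonzero' (⟨x, hx⟩ : S.L1) (by simpa using hx0)).1
    S.finrank_L1.1 ⟨_, hm⟩
  have e : S.ρ a x = c • x := (congrArg Subtype.val hc').symm
  have hc2 : c * c = 1 := by
    have : c ≠ 0 := fun h => hx0 (S.apply_inj a (by rw [e, h, zero_smul, map_zero]))
    have key : ∀ d : ZMod 3, d ≠ 0 → d * d = 1 := by decide
    exact key c this
  obtain ⟨k, hk⟩ := hr.odd_of_ne_two (by omega)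
  have hev : ∀ i : ℕ, S.ρ (a ^ (2 * i)) x = x := by
    intro i
    induction i with
    | zero => simp [S.map_one']
    | succ i ih =>
      rw [Nat.mul_succ, pow_add, pow_two, S.map_mul', S.map_mul', e, map_smul, e, smul_smul, hc2,
        one_smul, ih]
  have := congrArg (fun g => S.ρ g x) (hpow a ha)
  simp only [hk, pow_succ, S.map_mul', S.map_one', e, map_smul, hev] at this
  rw [e]; exact this

end Setting

end Cfsg.Agent.CubicBlock
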